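import Cfsg.Agent.Intrinsic.WOne.NZOne
import Cfsg.Agent.Intrinsic.WOneA.OfDiag
import Cfsg.Agent.Intrinsic.BigBal
import Cfsg.Agent.SignalizersComponents.IntrinsicPartI
import Cfsg.Agent.GTwoFour.Tools
import Cfsg.Prelude.Def_TwoFusion

/-!
# S1738, (5a.2): the world W1 without pairs of type (0): the 2-elements of `C(u)` fixing `L u` are `1` and `u`
-/

set_option autoImplicit false

open Cfsg Subgroup Equiv
open Cfsg.Agent.SignalizersComponents Cfsg.Agent.Lib
open Cfsg.Agent.SignalizersComponents.IntrinsicBasic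
open Cfsg.Agent.SignalizersComponents.RelSylow
open Cfsg.Agent.SporRec.TwoAn
open Cfsg.Agent.Intrinsic.Basic Cfsg.Agent.Intrinsic.Cen Cfsg.Agent.Intrinsic.Quot
open Cfsg.Agent.Intrinsic.BigBal

namespace Cfsg.Agent.Intrinsic.WOne

section

variable {G : Type*} [Group G] [Finite G] {n : ℕ} {D : Set G} {L : G → Subgroup G}
  {u v t t' x s y d g : G} {T : Subgroup G}

theorem isPGroup_zpowers_of {a : G} {m : ℕ} (ha : a ^ 2 ^ m = 1) : IsPGroup 2 (zpowers a) := by
  rintro ⟨_, k, rfl⟩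
  refine ⟨m, ?_⟩
  apply Subtype.ext
  change (a ^ k) ^ 2 ^ m = 1
  rw [← zpow_natCast, ← zpow_mul, mul_comm, zpow_mul, zpow_natCast, ha, one_zpow]

/-- a nontrivial subgroup normalized by the 2-group `T` containing it contains an involution central in `T` -/
theorem exists_central_inv {E : Subgroup G} (hT : IsPGroup 2 T) (hE : E ≤ T)
    (hn : T ≤ normalizer (E : Set G)) (hne : E ≠ ⊥) :
    ∃ d ∈ E, d * d = 1 ∧ d ≠ 1 ∧ ∀ a ∈ T, a * d = d * a := by
  have hp : Fact (Nat.Prime 2) := ⟨Nat.prime_two⟩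
  have hN : (E.subgroupOf T).Normal := normal_subgroupOf_of_le_normalizer hn
  have hne' : E.subgroupOf T ≠ ⊥ := by
    intro h
    apply hne
    have := congrArg (Subgroup.map T.subtype) h
    rwa [subgroupOf_map_subtype, Subgroup.map_bot, inf_of_le_left hE] at this
  obtain ⟨z, hz, hzc, hz1⟩ := GTwoFour.Tools.exists_mem_center_of_normal hT (E.subgroupOf T) hne'
  obtain ⟨k, hk⟩ := hT z
  obtain ⟨j, hj1, hj2⟩ := exists_pow_involution hk hz1
  have hzj : z ^ j ∈ center ↥T := pow_mem hzc j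
  refine ⟨((z ^ j : ↥T) : G), (E.subgroupOf T).pow_mem hz j, congrArg Subtype.val hj2, fun h => hj1
    (Subtype.ext h), fun a ha => ?_⟩
  exact congrArg Subtype.val (mem_center_iff.mp hzj ⟨a, ha⟩)

/-- Sylow 2-subgroups of `C(u)` are Sylow in `G`. -/
theorem W1.isMaxP_top (h : W1 n D L) (hz : NoZero D L) (hu : u ∈ D)
    (hT : IsMaxP 2 (centralizer ({u} : Set G)) T) : IsMaxP 2 ⊤ T := by
  have hp : Fact (Nat.Prime 2) := ⟨Nat.prime_two⟩
  obtain ⟨R, hR, hTR⟩ := exists_isMaxP hT.1 (le_top : T ≤ ⊤)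
  have hRT : R ≤ T := by
    by_contra hne
    obtain ⟨x, hxR, hxN, hxT⟩ := exists_mem_normalizer hR.1 hTR hne
    have huT : u ∈ T := IntrinsicPartI.mem_of_central hT (mem_centralizer_singleton_iff.mpr rfl)
      (h.sq hu) fun a ha => mem_centralizer_singleton_iff.mp ha
    obtain ⟨v, hv⟩ : ∃ v, v = x * u * x⁻¹ := ⟨_, rfl⟩
    have hvD : v ∈ D := hv ▸ h.conj hu x
    have hvT : v ∈ T := hv ▸ (mem_normalizer_iff.mp hxN u).mp huT
    have hvu : v * u = u * v := mem_centralizer_singleton_iff.mp (hT.2.1 hvT)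
    have hvc : ∀ a ∈ T, a * v = v * a := by
      intro a ha
      have h1 : x⁻¹ * a * x ∈ T := by
        have := (mem_normalizer_iff.mp (Subgroup.inv_mem _ hxN) a).mp ha
        rwa [inv_inv] at this
      have h2 := mem_centralizer_singleton_iff.mp (hT.2.1 h1)
      rw [hv]
      calc a * (x * u * x⁻¹) = x * (x⁻¹ * a * x * u) * x⁻¹ := by group
        _ = x * (u * (x⁻¹ * a * x)) * x⁻¹ := by rw [h2]
        _ = x * u * x⁻¹ * a := by group
    by_cases hvu' : v = u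
    · -- `x ∈ C(u)`
      have hxu : x ∈ centralizer ({u} : Set G) := by
        rw [mem_centralizer_singleton_iff, ← mul_inv_eq_iff_eq_mul, ← hv, hvu']
      have h1 : R ⊓ centralizer ({u} : Set G) ≤ T :=
        hT.2.2 _ hR.1.to_inf_left inf_le_right (le_inf hTR hT.2.1)
      exact hxT (h1 ⟨hxR, hxu⟩)
    · have hvL := h.mem_of_comm hz hu hvD hvu
      obtain ⟨p, hp1, hp2⟩ := WOneA.OfDiag.sylow h u hu v hvL
        (orderOf_eq_prime (by rw [pow_two, h.sq hvD]) (h.ne_one hvD)) hvu' _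
        (IntrinsicTools.isMaxP_inf (h.comp hu).tc hT)
      exact hp2 (hvc p hp1.1)
  exact le_antisymm hTR hRT ▸ hR

/-- a 2-element of the pump-up commuting with `u` lies in `L u` -/
theorem BigAt.mem_of_pump (h : W1 n D L) (hu : u ∈ D) (hb : BigAt n L u d) {a : G}
    (ha : a ∈ pump d (L u)) (hau : a * u = u * a) {k : ℕ} (hk : a ^ 2 ^ k = 1) : a ∈ L u :=
  cen_le _ _ (mem_of_comm_two (Or.inr hb.big)
    (isComp_cen_inf (h.pair hu) hb.sq hb.comm hb.fixes) ha hau hk)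

/-- a 2-element of `L u` commuting with `d` lies in the pump-up -/
theorem BigAt.mem_pump_of (h : W1 n D L) (hu : u ∈ D) (hb : BigAt n L u d) {a : G}
    (ha : a ∈ L u) (had : a * d = d * a) {k : ℕ} (hk : a ^ 2 ^ k = 1) : a ∈ pump d (L u) :=
  mem_pump_of_mem (h.pair hu) hb.sq hb.comm hb.fixes ha had hk

theorem BigAt.fixes_of (h : W1 n D L) (hu : u ∈ D) (hb : BigAt n L u d) {a : G}
    (hau : a * u = u * a) (had : a * d = d * a) (ha : Fixes a (pump d (L u))) : Fixes a (L u) :=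
  fixes_of_pump (h.pair hu) hb.sq hb.comm hb.fixes (h.norm hu hau) had ha

end

section

variable {G : Type*} [Group G] [Finite G]

/-- exact commutation: elements of a 2-group `T`, `a` fixes `X`, `b ∈ X` -/
theorem comm_of_fixes {X T : Subgroup G} (hT : IsPGroup 2 T) {a b : G} (ha : a ∈ T) (hb : b ∈ T)
    (hbX : b ∈ X) (hf : Fixes a X) : a * b = b * a := by
  have h1 := (fixes_iff_conj.mp hf).2 b hbX
  have h2 : b⁻¹ * (a * b * a⁻¹) ∈ T := mul_mem (inv_mem hb) (mul_mem (mul_mem ha hb) (inv_mem ha))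
  obtain ⟨k, hk⟩ := hT ⟨_, h2⟩
  have h3 : (b⁻¹ * (a * b * a⁻¹)) ^ 2 ^ k = 1 := congrArg Subtype.val hk
  have h4 := eq_one_of_mem_core h1 h3
  rw [inv_mul_eq_one, eq_mul_inv_iff_mul_eq] at h4
  exact h4.symm

end

universe w

section main

variable {G : Type w} [Group G] [Finite G] {n : ℕ} {D : Set G} {L : G → Subgroup G}
  {u v t t' x s y d g t₀ : G} {T : Subgroup G}

/-- the group `D₀` of (5a.2) -/
def dZero (L : G → Subgroup G) (u t₀ : G) (T : Subgroup G) : Subgroup G where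
  carrier := {y | y ∈ T ∧ Fixes y (L u) ∧ Fixes y (L t₀)}
  mul_mem' := by
    rintro a b ⟨h1, h2, h3⟩ ⟨h4, h5, h6⟩
    exact ⟨mul_mem h1 h4, fixes_mul h2 h5, fixes_mul h3 h6⟩
  one_mem' := ⟨one_mem _, fixes_one _, fixes_one _⟩
  inv_mem' := by
    rintro a ⟨h1, h2, h3⟩
    exact ⟨inv_mem h1, fixes_inv h2, fixes_inv h3⟩

/-- (5a.2): `y ∈ D₀`, `d` its involution: `d` is big and `y` fixes the pump-up -/
theorem W1.fixes_pump_of (hBen : BenderSimple.{w}) (h : W1 n D L) (hu : u ∈ D) {k : ℕ}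
    (hy2 : y ^ 2 ^ k = 1) (hy1 : y ≠ 1) (hyu : y * u = u * y) (hf : Fixes y (L u))
    (ht : t ∈ L u) (htt : t * t = 1) (ht1 : t ≠ 1) (htu : t ≠ u) (hyt : y * t = t * y)
    (hft : Fixes y (L t)) :
    ∃ j : ℕ, BigAt n L u (y ^ j) ∧ Fixes y (pump (y ^ j) (L u)) := by
  have htD := h.inv_mem hu ht htt ht1
  obtain ⟨j, hj1, hj2⟩ := exists_pow_involution hy2 hy1
  obtain ⟨A⟩ := h.nonempty_act htD
  obtain ⟨B⟩ := h.nonempty_act hu
  have hdu := Act.comm_pow hyu j
  have hdt := Act.comm_pow hyt j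
  have hyd : y * y ^ j = y ^ j * y := (Commute.refl y).pow_right j
  have hfd := B.fixes_pow hyu hf j
  have hfdt := A.fixes_pow hyt hft j
  obtain ⟨hb, hbt⟩ := h.isBig_of_fixes hu hj2 hdu hfd ht htt ht1 htu hdt hj1 hfdt
  have hpe := h.pump_eq_pump hu hj2 hdu hfd ht htt ht1 htu hdt hfdt
  refine ⟨j, ⟨hj2, hj1, hdu, hfd, hb⟩, ?_⟩
  obtain ⟨d, hd⟩ : ∃ d, d = y ^ j := ⟨_, rfl⟩
  rw [← hd] at hj1 hj2 hdu hdt hyd hfd hfdt hb hbt hpe ⊢
  have hyN := mem_normalizer_pump (h.pair hu) hj2 hdu hfd (h.norm hu hyu) hyd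
  have hcomp := isComp_cen_inf (h.pair hu) hj2 hdu hfd
  have hsup := isComp_cen (h.comp hu) (mem_centralizer_singleton_iff.mpr hdu) hj2 hfd
  have hcov := (cover_cen (h.comp hu) (mem_centralizer_singleton_iff.mpr hdu) hj2 hfd).mpr
    (h.pair hu).cover
  have hyJ : Fixes y (cen (L u) d) :=
    (fixes_iff_of_sup hsup.2 (mem_normalizer_cen (h.norm hu hyu) hyd) (h.norm hu hyu)).mpr hf
  have hJM := cen_le_pump (h.pair hu) hj2 hdu hfd
  rcases ANFactBigCent.Big.fixes_or hb (h.pair hu).inv (pair_mem_cen (h.pair hu) hdu) hcomp hcov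
    (big_no_se hBen hb (h.pair hu).inv (pair_mem_cen (h.pair hu) hdu) hcomp hcov) hyN
    (fun j hj => Big.core_le hb hJM ((fixes_iff_conj.mp hyJ).2 j hj)) with h1 | h1
  · exact h1
  · exfalso
    rw [hpe] at h1
    have hut := (h.comm hu ht).symm
    have hud : u * d = d * u := hdu.symm
    have h2 : Fixes (u * y) (L t) := fixes_of_pump (h.pair htD) hj2 hdt hfdt
      (h.norm htD (comm_mul hut hyt)) (comm_mul hud hyd) h1
    have h3 := fixes_mul h2 (fixes_inv hft)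
    rw [mul_inv_cancel_right] at h3
    exact h.not_fixes htD (h.mem_of_mem hu ht htt ht1) (h.sq hu) (h.ne_one hu) (Ne.symm htu) h3

theorem pow_of_mem (hT : IsPGroup 2 T) {a : G} (ha : a ∈ T) : ∃ k : ℕ, a ^ 2 ^ k = 1 := by
  obtain ⟨k, hk⟩ := hT ⟨a, ha⟩
  exact ⟨k, congrArg Subtype.val hk⟩

section closed

variable (hBen : BenderSimple.{w}) (h : W1 n D L) (hz : NoZero D L) (hu : u ∈ D)
  (hT : IsPGroup 2 T) (hTu : T ≤ centralizer ({u} : Set G)) (ht : t ∈ L u) (htT : t ∈ T)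
  (htt : t * t = 1) (ht1 : t ≠ 1) (htu : t ≠ u)

include hBen h hz hu hT hTu ht htT htt ht1 htu

/-- `D₀` is strongly closed in `T` -/
theorem dZero_closed (hy : y ∈ dZero L u t T) (g : G) (hg : g * y * g⁻¹ ∈ T) :
    g * y * g⁻¹ ∈ dZero L u t T := by
  obtain ⟨hyT, hfu, hft⟩ := hy
  by_cases hy1 : y = 1
  · rw [hy1, mul_one, mul_inv_cancel]; exact one_mem _
  have hTu' : ∀ {a : G}, a ∈ T → a * u = u * a := fun ha => mem_centralizer_singleton_iff.mp (hTu ha)
  have hyu := hTu' hyT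
  obtain ⟨k, hk⟩ := pow_of_mem hT hyT
  have hyt := comm_of_fixes hT hyT htT ht hfu
  obtain ⟨j, hb, hfp⟩ := h.fixes_pump_of hBen hu hk hy1 hyu hfu ht htt ht1 htu hyt hft
  obtain ⟨y', hy'⟩ : ∃ y', y' = g * y * g⁻¹ := ⟨_, rfl⟩
  have hd : g * y ^ j * g⁻¹ = y' ^ j := by rw [hy', conj_pow]
  rw [← hy'] at hg ⊢
  have hy'u := hTu' hg
  have hd'u : y' ^ j * u = u * y' ^ j := Act.comm_pow hy'u j
  have hb1 := hb.conj h hu g
  rw [hd] at hb1
  obtain ⟨hb2, hp2⟩ := hb1.of_comm h hz (h.conj hu g) hu hd'u.symm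
  have hp3 := hb.pump_conj h hu g
  rw [hd] at hp3
  have hfp' : Fixes y' (pump (y' ^ j) (L u)) := by
    rw [hp2, hp3, hy']
    exact hfp.cj g
  have hyd' : y' * y' ^ j = y' ^ j * y' := (Commute.refl y').pow_right j
  have hfu' : Fixes y' (L u) := hb2.fixes_of h hu hy'u hyd' hfp'
  have hyt' := comm_of_fixes hT hg htT ht hfu'
  have htd' : t * y' ^ j = y' ^ j * t := (Act.comm_pow hyt' j).symm
  have htp := hb2.mem_pump_of h hu ht htd' (k := 1) (by rw [pow_one, pow_two, htt])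
  obtain ⟨htD, hb3, hp4⟩ := hb2.of_mem h hu htp htt ht1
  refine ⟨hg, hfu', ?_⟩
  rw [← hp4] at hfp'
  exact hb3.fixes_of h htD hyt' hyd' hfp'

omit hBen ht htT htt ht1 htu in
/-- `T ∩ L u` is strongly closed in `T` if there is a big involution central in `T` -/
theorem tL_closed (hb : BigAt n L u d) (hd : ∀ a ∈ T, a * d = d * a) (hx : x ∈ T ⊓ L u) (g : G)
    (hg : g * x * g⁻¹ ∈ T) : g * x * g⁻¹ ∈ T ⊓ L u := by
  by_cases hx1 : x = 1
  · rw [hx1, mul_one, mul_inv_cancel]; exact one_mem _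
  have hTu' : ∀ {a : G}, a ∈ T → a * u = u * a := fun ha => mem_centralizer_singleton_iff.mp (hTu ha)
  obtain ⟨k, hk⟩ := pow_of_mem hT hx.1
  obtain ⟨j, hj1, hj2⟩ := exists_pow_involution hk hx1
  have hx0T : x ^ j ∈ T := T.pow_mem hx.1 j
  have hx0L : x ^ j ∈ L u := (L u).pow_mem hx.2 j
  -- `x ∈ L (x ^ j)`
  have hxM := hb.mem_pump_of h hu hx.2 (hd x hx.1) hk
  have hx0M := hb.mem_pump_of h hu hx0L (hd _ hx0T) (k := 1) (by rw [pow_one, pow_two, hj2])
  obtain ⟨hx0D, hb0, hp0⟩ := hb.of_mem h hu hx0M hj2 hj1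
  have hxL0 : x ∈ L (x ^ j) := hb0.mem_of_pump h hx0D (hp0 ▸ hxM) ((Commute.refl x).pow_right j) hk
  -- conjugate
  obtain ⟨x', hx'⟩ : ∃ x', x' = g * x * g⁻¹ := ⟨_, rfl⟩
  have hx0' : g * x ^ j * g⁻¹ = x' ^ j := by rw [hx', conj_pow]
  rw [← hx'] at hg ⊢
  have hk' : x' ^ 2 ^ k = 1 := by rw [hx', conj_pow, hk, mul_one, mul_inv_cancel]
  have hj1' : x' ^ j ≠ 1 := by
    rw [← hx0']
    intro he
    rw [mul_inv_eq_one] at he
    exact hj1 (mul_eq_left.mp he)
  have hj2' : x' ^ j * x' ^ j = 1 := by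
    rw [← hx0', show g * x ^ j * g⁻¹ * (g * x ^ j * g⁻¹) = g * (x ^ j * x ^ j) * g⁻¹ by group, hj2,
      mul_one, mul_inv_cancel]
  have hD' : x' ^ j ∈ D := hx0' ▸ h.conj hx0D g
  have hx'L : x' ∈ L (x' ^ j) := by
    rw [← hx0', h.L_conj hx0D, hx']
    exact conj_mem_cj hxL0
  have hT' : x' ^ j ∈ T := T.pow_mem hg j
  have hL' : x' ^ j ∈ L u := h.mem_of_comm hz hu hD' (hTu' hT')
  have hM' := hb.mem_pump_of h hu hL' (hd _ hT') (k := 1) (by rw [pow_one, pow_two, hj2'])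
  obtain ⟨-, hb', hp'⟩ := hb.of_mem h hu hM' hj2' hj1'
  have hxM' := hb'.mem_pump_of h hD' hx'L (hd _ hg) hk'
  rw [hp'] at hxM'
  exact ⟨hg, hb.mem_of_pump h hu hxM' (hTu' hg) hk'⟩

end closed

/-- the statement of Goldschmidt's product theorem, commutator part -/
def COne (G : Type w) [Group G] [Finite G] : Prop :=
  ∀ (P : Sylow 2 G) (A B : Subgroup G), A ⊓ B = ⊥ → Cfsg.IsStronglyClosed A (P : Subgroup G) →
    Cfsg.IsStronglyClosed B (P : Subgroup G) →
    ⁅normalClosure (A : Set G), normalClosure (B : Set G)⁆ ≤ Cfsg.oddCore G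

/-- **(5a.2)** in the world without pairs of type (0): the 2-elements of `C(u)` fixing `L u` are `1` and `u`. -/
theorem W1.eq_of_fixes_two [IsSimpleGroup G] (hBen : BenderSimple.{w}) (hC1 : COne G) (h : W1 n D L)
    (hz : NoZero D L) (hu : u ∈ D) {k : ℕ} (hy2 : y ^ 2 ^ k = 1) (hyu : y * u = u * y)
    (hf : Fixes y (L u)) : y = 1 ∨ y = u := by
  have hp : Fact (Nat.Prime 2) := ⟨Nat.prime_two⟩
  obtain ⟨T, hTm, hyT⟩ := exists_isMaxP (isPGroup_zpowers_of hy2)
    (zpowers_le.mpr (mem_centralizer_singleton_iff.mpr hyu))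
  have hyT := hyT (mem_zpowers y)
  have hT := hTm.1
  have hTu := hTm.2.1
  have hTu' : ∀ {a : G}, a ∈ T → a * u = u * a := fun ha => mem_centralizer_singleton_iff.mp (hTu ha)
  have huT : u ∈ T := IntrinsicPartI.mem_of_central hTm (mem_centralizer_singleton_iff.mpr rfl)
    (h.sq hu) fun a ha => mem_centralizer_singleton_iff.mp ha
  have hTtop := h.isMaxP_top hz hu hTm
  let P : Sylow 2 G := ⟨T, hT, fun {Q} hQ hle => le_antisymm (hTtop.2.2 Q hQ le_top hle) hle⟩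
  have hPT : (P : Subgroup G) = T := rfl
  -- an involution `t ≠ u` of `T ∩ L u`
  obtain ⟨t, ht, htT, htt, ht1, htu⟩ : ∃ t ∈ L u, t ∈ T ∧ t * t = 1 ∧ t ≠ 1 ∧ t ≠ u := by
    obtain ⟨s, hs, hss, hs1, hsu⟩ := h.exists_inv hu
    have hmax := IntrinsicTools.isMaxP_inf (h.comp hu).tc hTm
    obtain ⟨c, hc, hle⟩ := hmax.exists_conj_le (isPGroup_zpowers_of (a := s) (m := 1)
      (by rw [pow_one, pow_two, hss])) (zpowers_le.mpr hs)
    have h1 : c * s * c⁻¹ ∈ T ⊓ L u := hle ⟨s, mem_zpowers s, rfl⟩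
    refine ⟨c * s * c⁻¹, h1.2, h1.1, ?_, ?_, ?_⟩
    · rw [show c * s * c⁻¹ * (c * s * c⁻¹) = c * (s * s) * c⁻¹ by group, hss, mul_one, mul_inv_cancel]
    · intro he
      rw [mul_inv_eq_one] at he
      exact hs1 (mul_eq_left.mp he)
    · intro he
      have h2 := h.comm hu hc
      have h3 : s = c⁻¹ * u * c := by rw [← he]; group
      apply hsu
      rw [h3, mul_assoc, ← h2, inv_mul_cancel_left]
  have hu0 : u ∉ dZero L u t T := fun h0 => h.not_fixes (h.inv_mem hu ht htt ht1)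
    (h.mem_of_mem hu ht htt ht1) (h.sq hu) (h.ne_one hu) (Ne.symm htu) h0.2.2
  -- `D₀ = 1`
  have h0 : dZero L u t T = ⊥ := by
    by_contra hne
    have hcl : Cfsg.IsStronglyClosed (dZero L u t T) (P : Subgroup G) :=
      ⟨fun a ha => ha.1, fun a ha g hg => dZero_closed hBen h hz hu hT hTu ht htT htt ht1 htu ha g hg⟩
    have hnorm : T ≤ normalizer (dZero L u t T : Set G) := by
      intro a ha
      rw [mem_normalizer_iff]
      intro b
      constructor
      · intro hb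
        exact hcl.2 b hb a (T.mul_mem (T.mul_mem ha hb.1) (T.inv_mem ha))
      · intro hb
        have h1 := hcl.2 _ hb a⁻¹ (T.mul_mem (T.mul_mem (T.inv_mem ha) hb.1) (T.inv_mem (T.inv_mem ha)))
        have h2 : a⁻¹ * (a * b * a⁻¹) * a⁻¹⁻¹ = b := by group
        rwa [h2] at h1
    obtain ⟨d, hd, hdd, hd1, hdc⟩ := exists_central_inv hT (show dZero L u t T ≤ T from fun a ha => ha.1)
      hnorm hne
    have hdu := hTu' hd.1
    have hdt := hdc t htT
    obtain ⟨hb, -⟩ := h.isBig_of_fixes hu hdd hdu hd.2.1 ht htt ht1 htu hdt.symm hd1 hd.2.2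
    have hbig : BigAt n L u d := ⟨hdd, hd1, hdu, hd.2.1, hb⟩
    have hcl' : Cfsg.IsStronglyClosed (T ⊓ L u) (P : Subgroup G) :=
      ⟨inf_le_left, fun a ha g hg => tL_closed h hz hu hT hTu hbig hdc ha g hg⟩
    have hinf : (T ⊓ L u) ⊓ dZero L u t T = ⊥ := by
      rw [eq_bot_iff]
      rintro a ⟨⟨haT, haL⟩, ha0⟩
      obtain ⟨A⟩ := h.nonempty_act hu
      obtain ⟨m, hm⟩ := pow_of_mem hT haT
      rw [mem_bot]
      rcases A.mem_core_or haL ((A.ker (hTu' haT)).mpr ha0.2.1) with h1 | h1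
      · exact eq_one_of_mem_core h1 hm
      · exfalso
        have h2 : (u * a) ^ 2 ^ (m + 1) = 1 := by
          have hc : Commute u a := (hTu' haT).symm
          rw [hc.mul_pow, pow_succ, pow_mul a, hm, one_pow, mul_one, mul_comm, pow_mul, pow_two,
            h.sq hu, one_pow]
        have h3 := eq_one_of_mem_core h1 h2
        have h4 : a = u := by
          rw [eq_inv_of_mul_eq_one_right h3, inv_eq_of_mul_eq_one_left (h.sq hu)]
        exact hu0 (h4 ▸ ha0)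
    have hcomm := hC1 P _ _ hinf hcl' hcl
    have hn1 : normalClosure ((T ⊓ L u : Subgroup G) : Set G) = ⊤ := by
      rcases (normalClosure_normal (s := ((T ⊓ L u : Subgroup G) : Set G))).eq_bot_or_eq_top with h1 | h1
      · exfalso
        have h2 : u ∈ normalClosure ((T ⊓ L u : Subgroup G) : Set G) :=
          subset_normalClosure ⟨huT, h.mem hu⟩
        rw [h1, mem_bot] at h2
        exact h.ne_one hu h2
      · exact h1
    have hn2 : normalClosure ((dZero L u t T : Subgroup G) : Set G) = ⊤ := by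
      rcases (normalClosure_normal (s := ((dZero L u t T : Subgroup G) : Set G))).eq_bot_or_eq_top with
        h1 | h1
      · exfalso
        have h2 : d ∈ normalClosure ((dZero L u t T : Subgroup G) : Set G) := subset_normalClosure hd
        rw [h1, mem_bot] at h2
        exact hd1 h2
      · exact h1
    rw [hn1, hn2] at hcomm
    -- `L u` is perfect, so contained in the odd core
    have h5 : L u ≤ Cfsg.oddCore G := by
      have h6 : ⁅L u, L u⁆ ≤ ⁅(⊤ : Subgroup G), ⊤⁆ := commutator_mono le_top le_top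
      rw [(h.comp hu).perfect] at h6
      exact h6.trans hcomm
    exact (h.comp hu).not_odd (Nat.Coprime.odd_of_right (Cores.pPrimeCore_coprime 2 (G := G))) h5
  -- conclusion
  have hyt := comm_of_fixes hT hyT htT ht hf
  have hut := (h.comm hu ht).symm
  rcases h.fixes_or_two hu hy2 hyu hf ht htt ht1 htu hyt with h1 | h1
  · left
    have h2 : y ∈ dZero L u t T := ⟨hyT, hf, h1⟩
    rwa [h0, mem_bot] at h2
  · right
    have h2 : y * u ∈ dZero L u t T := ⟨T.mul_mem hyT huT, fixes_mul hf (h.fixes_self hu), h1⟩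
    rw [h0, mem_bot] at h2
    rw [eq_inv_of_mul_eq_one_left h2, inv_eq_of_mul_eq_one_left (h.sq hu)]

end main

end Cfsg.Agent.Intrinsic.WOne
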