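import Cfsg.Agent.Intrinsic.WOne.Four
import Cfsg.Agent.SignalizersComponents.StandardTools

/-!
# S1738, (5a.1): the world W1 without pairs of type (0)

`NoZero D L`: there are no pairs of type (0).
-/

set_option autoImplicit false

open Cfsg Subgroup Equiv
open Cfsg.Agent.SignalizersComponents Cfsg.Agent.Lib
open Cfsg.Agent.SignalizersComponents.IntrinsicBasic
open Cfsg.Agent.SporRec.TwoAn
open Cfsg.Agent.Intrinsic.Basic Cfsg.Agent.Intrinsic.Cen Cfsg.Agent.Intrinsic.Quot

namespace Cfsg.Agent.Intrinsic.WOne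

/-- there are no pairs of type (0) -/
def NoZero {G : Type*} [Group G] (D : Set G) (L : G → Subgroup G) : Prop :=
  ∀ u ∈ D, ∀ v ∈ D, u ≠ v → u * v = v * u → ¬ Fixes v (L u)

variable {G : Type*} [Group G] [Finite G] {n : ℕ} {D : Set G} {L : G → Subgroup G}
  {u v t t' x s y d g : G}

/-- `d` is a big involution for `u` -/
structure BigAt (n : ℕ) (L : G → Subgroup G) (u d : G) : Prop where
  sq : d * d = 1
  ne_one : d ≠ 1
  comm : d * u = u * d
  fixes : Fixes d (L u)
  big : IsBig n u (L u) d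

/-- equivariance -/
theorem BigAt.conj (h : W1 n D L) (hu : u ∈ D) (hb : BigAt n L u d) (g : G) :
    BigAt n L (g * u * g⁻¹) (g * d * g⁻¹) := by
  have hsq : g * d * g⁻¹ * (g * d * g⁻¹) = 1 := by
    rw [show g * d * g⁻¹ * (g * d * g⁻¹) = g * (d * d) * g⁻¹ by group, hb.sq]; group
  have hne : g * d * g⁻¹ ≠ 1 := fun he => hb.ne_one (by
    rw [mul_inv_eq_one] at he
    exact mul_eq_left.mp he)
  have hc : g * d * g⁻¹ * (g * u * g⁻¹) = g * u * g⁻¹ * (g * d * g⁻¹) := by
    rw [show g * d * g⁻¹ * (g * u * g⁻¹) = g * (d * u) * g⁻¹ by group, hb.comm]; group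
  have hf : Fixes (g * d * g⁻¹) (L (g * u * g⁻¹)) := by
    rw [h.L_conj hu]; exact hb.fixes.cj g
  refine ⟨hsq, hne, hc, hf, (h.small_or_big (h.conj hu g) hsq hne hc hf).resolve_left fun hs => ?_⟩
  have h1 := (hs.fixes (h.pair (h.conj hu g)) hc).cj g⁻¹
  rw [h.L_conj hu, cj_pump (h.pair hu) hb.sq hb.comm hb.fixes, cj_inv_cj,
    show g⁻¹ * (g * u * g⁻¹) * g⁻¹⁻¹ = u by group] at h1
  exact hb.big.not_fixes (h.pair hu) hb.sq hb.comm hb.fixes h1

theorem BigAt.pump_conj (h : W1 n D L) (hu : u ∈ D) (hb : BigAt n L u d) (g : G) :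
    pump (g * d * g⁻¹) (L (g * u * g⁻¹)) = cj g (pump d (L u)) := by
  rw [h.L_conj hu, cj_pump (h.pair hu) hb.sq hb.comm hb.fixes]

theorem BigAt.isComp (h : W1 n D L) (hu : u ∈ D) (hb : BigAt n L u d) :
    IsComp (centralizer ({d} : Set G)) (pump d (L u)) :=
  pump_comp (h.pair hu) hb.sq hb.comm hb.fixes

theorem BigAt.mem (h : W1 n D L) (hu : u ∈ D) (hb : BigAt n L u d) : u ∈ pump d (L u) :=
  mem_pump (h.pair hu) hb.sq hb.comm hb.fixes

/-- involutions of the pump-up -/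
theorem BigAt.of_mem (h : W1 n D L) (hu : u ∈ D) (hb : BigAt n L u d) (hs : s ∈ pump d (L u))
    (hss : s * s = 1) (hs1 : s ≠ 1) : s ∈ D ∧ BigAt n L s d ∧ pump d (L s) = pump d (L u) := by
  obtain ⟨h1, h2, h3, h4, h5⟩ := h.of_mem_pump hu hb.sq hb.ne_one hb.comm hb.fixes hb.big hs hss hs1
  exact ⟨h1, ⟨hb.sq, hb.ne_one, h2, h3, h5⟩, h4⟩

/-- in the world without pairs of type (0): all big pump-ups in `C(d)` coincide -/
theorem BigAt.pump_unique (h : W1 n D L) (hz : NoZero D L) (hu : u ∈ D) (hv : v ∈ D)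
    (hbu : BigAt n L u d) (hbv : BigAt n L v d) : pump d (L u) = pump d (L v) := by
  by_contra hne
  have hM := hbu.isComp h hu
  have hM' := hbv.isComp h hv
  -- `u` fixes the pump-up of `v`
  have h1 : Fixes u (pump d (L v)) := hM'.fixes_of_mem hM (Ne.symm hne) (hbu.mem h hu)
  obtain ⟨o, ho, h2, h3⟩ := Lifting.exists_involution (odd_card_core (pump d (L v))) (v := u) (x := v)
    (n := 1) (by rw [pow_one, pow_two, h.sq hu])
    (normalizer_le_normalizer_core _ h1.1) (le_normalizer_core _ (hbv.mem h hv))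
    (by rw [h.sq hv]; exact one_mem _) ((fixes_iff_conj.mp h1).2 v (hbv.mem h hv))
  have h4 : v * o ∈ pump d (L v) := mul_mem (hbv.mem h hv) (core_le _ ho)
  have h5 : v * o ≠ 1 := by
    intro he
    have h6 : v = o⁻¹ := eq_inv_of_mul_eq_one_left he
    have h7 : o⁻¹ ∈ core (pump d (L v)) := inv_mem ho
    rw [← h6] at h7
    exact h.ne_one hv (eq_one_of_mem_core_sq h7 (h.sq hv))
  obtain ⟨hsD, hbs, -⟩ := hbv.of_mem h hv h4 h2 h5
  -- it fixes the pump-up of `u`, hence `L u`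
  have h6 : Fixes (v * o) (pump d (L u)) := hM.fixes_of_mem hM' hne h4
  have h7 : Fixes (v * o) (L u) := fixes_of_pump (h.pair hu) hbu.sq hbu.comm hbu.fixes
    (h.norm hu h3.symm) hbs.comm.symm h6
  have h8 : u ≠ v * o := by
    intro he
    exact hbu.big.not_fixes (h.pair hu) hbu.sq hbu.comm hbu.fixes (he ▸ h6)
  exact hz u hu _ hsD h8 h3 h7

/-- in the world without pairs of type (0): the big pump-up is normal in `C(d)` -/
theorem BigAt.le_normalizer (h : W1 n D L) (hz : NoZero D L) (hu : u ∈ D) (hb : BigAt n L u d)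
    {g : G} (hg : g * d = d * g) : g ∈ normalizer (pump d (L u) : Set G) := by
  have h1 := hb.pump_conj h hu g
  have h2 := hb.conj h hu g
  rw [hg, mul_inv_cancel_right] at h1 h2
  rw [mem_normalizer_iff_cj, ← h1]
  exact h2.pump_unique h hz (h.conj hu g) hu hb

/-- **(5a.1)** in the world without pairs of type (0): an involution `d` of `C(v)` which is big for some `u ∈ D` is
big for `v`. -/
theorem BigAt.of_comm (h : W1 n D L) (hz : NoZero D L) (hu : u ∈ D) (hv : v ∈ D)
    (hb : BigAt n L u d) (hvd : v * d = d * v) :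
    BigAt n L v d ∧ pump d (L v) = pump d (L u) := by
  have hM := hb.isComp h hu
  obtain ⟨s, hs, hs2, hvs⟩ := StandardTools.exists_involution_commute
    (even_iff_two_dvd.mpr hM.even) (h.sq hv) (hb.le_normalizer h hz hu hvd)
  have hss : s * s = 1 := by rw [← pow_two, ← hs2, pow_orderOf_eq_one]
  have hs1 : s ≠ 1 := by rintro rfl; simp at hs2
  obtain ⟨hsD, hbs, hps⟩ := hb.of_mem h hu hs hss hs1
  by_cases hvs' : v = s
  · subst hvs'
    exact ⟨hbs, hps⟩
  have h1 : s ∈ L v := (h.split hv hsD hvs.symm).resolve_right (hz v hv s hsD hvs' hvs)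
  have h2 : v ∈ L s := h.mem_of_mem hv h1 hss hs1
  have h3 : v ∈ pump d (L s) := mem_pump_of_mem (h.pair hsD) hbs.sq hbs.comm hbs.fixes h2 hvd
    (k := 1) (by rw [pow_one, pow_two, h.sq hv])
  obtain ⟨-, h4, h5⟩ := hbs.of_mem h hsD h3 (h.sq hv) (h.ne_one hv)
  exact ⟨h4, h5.trans hps⟩

/-- **(5a.1)** an involution of `C(v)` conjugate to a big involution is big for `v`. -/
theorem BigAt.of_conj (h : W1 n D L) (hz : NoZero D L) (hu : u ∈ D) (hv : v ∈ D)
    (hb : BigAt n L u d) (g : G) (hvd : v * (g * d * g⁻¹) = g * d * g⁻¹ * v) :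
    BigAt n L v (g * d * g⁻¹) :=
  ((hb.conj h hu g).of_comm h hz (h.conj hu g) hv hvd).1

/-- commuting members of `D` -/
theorem W1.mem_of_comm (h : W1 n D L) (hz : NoZero D L) (hu : u ∈ D) (hv : v ∈ D)
    (huv : v * u = u * v) : v ∈ L u := by
  by_cases he : u = v
  · rw [he]; exact h.mem hv
  · exact (h.split hu hv huv).resolve_right (hz u hu v hv he huv.symm)

end Cfsg.Agent.Intrinsic.WOne
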