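import Cfsg.Agent.Intrinsic.WOne.Act
import Cfsg.Agent.Intrinsic.TypesDef

/-!
# The world W1 (S1738, section 5)

`W1 n D L`: `D` is a class of involutions, `(u, L u)` is an `n`-pair for every `u ∈ D` (conjugate for all `u`),
`8 ≤ n ≤ 11`, `L u` contains members of `D` other than `u`.
-/

set_option autoImplicit false

open Cfsg Subgroup Equiv
open Cfsg.Agent.SignalizersComponents Cfsg.Agent.Lib
open Cfsg.Agent.SignalizersComponents.IntrinsicBasic
open Cfsg.Agent.Intrinsic.Basic Cfsg.Agent.Intrinsic.Cen Cfsg.Agent.Intrinsic.Quot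

namespace Cfsg.Agent.Intrinsic.WOne

/-- The world W1. -/
structure W1.{u} {G : Type u} [Group G] [Finite G] (n : ℕ) (D : Set G) (L : G → Subgroup G) : Prop where
  le : 8 ≤ n
  le' : n ≤ 11
  ih : PQS.{u} (Nat.card G)
  cent : ∀ x : G, orderOf x = 2 → centralizer ({x} : Set G) ≠ ⊤
  pair : ∀ {u : G}, u ∈ D → IsPair n u (L u)
  conj : ∀ {u : G}, u ∈ D → ∀ g : G, g * u * g⁻¹ ∈ D
  L_conj : ∀ {u : G}, u ∈ D → ∀ g : G, L (g * u * g⁻¹) = cj g (L u)
  one_class : ∀ {u v : G}, u ∈ D → v ∈ D → ∃ g : G, g * u * g⁻¹ = v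
  /-- (3.A) -/
  symm : ∀ {u v : G}, u ∈ D → v ∈ D → u * v = v * u → Fixes v (L u) → Fixes u (L v)
  /-- (P) -/
  swap : ∀ {u v : G}, u ∈ D → v ∈ D → u * v = v * u → ¬ Fixes v (L u) →
    ∃ h ∈ L u, h⁻¹ * v * h = v * u
  /-- (A2) -/
  quat : ∀ {u v : G}, u ∈ D → v ∈ D → u * v = v * u → ¬ Fixes v (L u) →
    ∃ a ∈ L u, ∃ b ∈ L u, a * v = v * a ∧ b * v = v * b ∧ a * a = u ∧ b * b = u ∧ b * a = a * b * u
  four : ∀ {u : G}, u ∈ D → ∃ w ∈ L u, w ∈ D ∧ w ≠ u

/-! ### the pump-up -/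

section pump

variable {G : Type*} [Group G]

open Classical in
/-- The 2-component `M_x(X)` of `C(x)` containing `cen X x`. -/
noncomputable def pump (x : G) (X : Subgroup G) : Subgroup G :=
  if h : ∃ M, IsComp (centralizer ({x} : Set G)) M ∧ cen X x ≤ M then h.choose else ⊥

/-- `x` is big for `(u, X)` -/
def IsBig (n : ℕ) (u : G) (X : Subgroup G) (x : G) : Prop := Big n u (cen X x) (pump x X)

/-- `x` is small for `X` -/
def IsSmall (X : Subgroup G) (x : G) : Prop := Small (cen X x) (pump x X)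

variable [Finite G] {n : ℕ} {u x : G} {X : Subgroup G}

theorem pump_spec (h : IsPair n u X) (hxx : x * x = 1) (hx : x * u = u * x) (hf : Fixes x X) :
    IsComp (centralizer ({x} : Set G)) (pump x X) ∧ cen X x ≤ pump x X := by
  obtain ⟨M, h1, h2, -⟩ := exists_pump h hxx hx hf
  have h3 : ∃ M, IsComp (centralizer ({x} : Set G)) M ∧ cen X x ≤ M := ⟨M, h1, h2⟩
  rw [pump, dif_pos h3]
  exact h3.choose_spec

theorem pump_comp (h : IsPair n u X) (hxx : x * x = 1) (hx : x * u = u * x) (hf : Fixes x X) :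
    IsComp (centralizer ({x} : Set G)) (pump x X) := (pump_spec h hxx hx hf).1

theorem cen_le_pump (h : IsPair n u X) (hxx : x * x = 1) (hx : x * u = u * x) (hf : Fixes x X) :
    cen X x ≤ pump x X := (pump_spec h hxx hx hf).2

theorem mem_pump (h : IsPair n u X) (hxx : x * x = 1) (hx : x * u = u * x) (hf : Fixes x X) :
    u ∈ pump x X := cen_le_pump h hxx hx hf (pair_mem_cen h hx)

/-- 2-elements of `X` commuting with `x` lie in the pump-up -/
theorem mem_pump_of_mem (h : IsPair n u X) (hxx : x * x = 1) (hx : x * u = u * x) (hf : Fixes x X)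
    {m : G} (hm : m ∈ X) (hmx : m * x = x * m) {k : ℕ} (hk : m ^ 2 ^ k = 1) : m ∈ pump x X :=
  cen_le_pump h hxx hx hf (mem_cen hm hmx hk)

theorem pump_eq (h : IsPair n u X) (hxx : x * x = 1) (hx : x * u = u * x) (hf : Fixes x X)
    {M : Subgroup G} (hM : IsComp (centralizer ({x} : Set G)) M) (hle : cen X x ≤ M) :
    pump x X = M :=
  pump_unique h hxx hx hf (pump_comp h hxx hx hf) hM (cen_le_pump h hxx hx hf) hle

theorem cj_pump (h : IsPair n u X) (hxx : x * x = 1) (hx : x * u = u * x) (hf : Fixes x X)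
    (g : G) : pump (g * x * g⁻¹) (cj g X) = cj g (pump x X) := by
  refine pump_eq (h.cj g) ?_ ?_ (hf.cj g) ?_ ?_
  · rw [show g * x * g⁻¹ * (g * x * g⁻¹) = g * (x * x) * g⁻¹ by group, hxx]; group
  · rw [show g * x * g⁻¹ * (g * u * g⁻¹) = g * (x * u) * g⁻¹ by group, hx]; group
  · rw [← cj_centralizer]
    exact (pump_comp h hxx hx hf).cj g
  · rw [← cj_cen]
    exact cj_mono (cen_le_pump h hxx hx hf)

/-- elements normalizing `X` and commuting with `x` normalize the pump-up -/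
theorem mem_normalizer_pump (h : IsPair n u X) (hxx : x * x = 1) (hx : x * u = u * x)
    (hf : Fixes x X) {a : G} (ha : a ∈ normalizer (X : Set G)) (hax : a * x = x * a) :
    a ∈ normalizer (pump x X : Set G) := by
  have h1 := cj_pump h hxx hx hf a
  rw [mem_normalizer_iff_cj] at ha ⊢
  rw [ha, hax, mul_inv_cancel_right] at h1
  exact h1.symm

/-- `u` is an involution of `C(x)`, `cen X x` is a 2-component of `C(x) ∩ C(u)` -/
theorem isComp_cen_pump (h : IsPair n u X) (hxx : x * x = 1) (hx : x * u = u * x)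
    (hf : Fixes x X) :
    IsComp (centralizer ({x} : Set G) ⊓ centralizer ({u} : Set G)) (cen X x) := by
  rw [inf_comm]
  exact (isComp_cen h.comp (mem_centralizer_singleton_iff.mpr hx) hxx hf).1

theorem isComp_cen_inf (h : IsPair n u X) (hxx : x * x = 1) (hx : x * u = u * x)
    (hf : Fixes x X) : IsComp (pump x X ⊓ centralizer ({u} : Set G)) (cen X x) :=
  isComp_inf (isComp_cen_pump h hxx hx hf) (pump_comp h hxx hx hf) (cen_le_pump h hxx hx hf)

/-- **small or big** -/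
theorem isSmall_or_isBig.{v} {G : Type v} [Group G] [Finite G] {n : ℕ} {u x : G} {X : Subgroup G}
    (ih : PQS.{v} (Nat.card G)) (hn : 8 ≤ n)
    (hc : ∀ x : G, orderOf x = 2 → centralizer ({x} : Set G) ≠ ⊤)
    (h : IsPair n u X) (hxx : x * x = 1) (hx1 : x ≠ 1) (hx : x * u = u * x)
    (hf : Fixes x X) : IsSmall X x ∨ IsBig n u X x := by
  refine small_or_big ih hn h.inv (pair_mem_cen h hx) (isComp_cen_pump h hxx hx hf)
    ((cover_cen h.comp (mem_centralizer_singleton_iff.mpr hx) hxx hf).mpr h.cover)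
    (pump_comp h hxx hx hf) (cen_le_pump h hxx hx hf) ?_
  have hox : orderOf x = 2 := orderOf_eq_prime (by rw [pow_two, hxx]) hx1
  have h1 : pump x X < ⊤ := lt_of_le_of_lt (pump_comp h hxx hx hf).le
    (lt_top_iff_ne_top.mpr (hc x hox))
  have h2 : Nat.card (pump x X) ≤ Nat.card G :=
    Nat.le_of_dvd Nat.card_pos (Subgroup.card_subgroup_dvd_card _)
  refine lt_of_le_of_ne h2 fun h3 => h1.ne (Subgroup.eq_top_of_card_eq _ h3)

omit [Finite G] in
theorem IsSmall.fixes {X : Subgroup G} (h : IsSmall X x) (hp : IsPair n u X) (hx : x * u = u * x) :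
    Fixes u (pump x X) :=
  Small.fixes h (pair_mem_cen hp hx) fun _ hy =>
    mem_centralizer_singleton_iff.mpr (pair_comm hp (cen_le X x hy))

theorem IsBig.not_fixes (h : IsBig n u X x) (hp : IsPair n u X) (hxx : x * x = 1)
    (hx : x * u = u * x) (hf : Fixes x X) : ¬ Fixes u (pump x X) :=
  Big.not_fixes h hp.sq hp.ne_one (pump_comp hp hxx hx hf)

/-- big and small exclude each other -/
theorem IsBig.not_small (h : IsBig n u X x) (hp : IsPair n u X) (hxx : x * x = 1)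
    (hx : x * u = u * x) (hf : Fixes x X) : ¬ IsSmall X x := fun hs =>
  h.not_fixes hp hxx hx hf (hs.fixes hp hx)

end pump

/-! ### consequences of the record -/

namespace W1

variable {G : Type*} [Group G] [Finite G] {n : ℕ} {D : Set G} {L : G → Subgroup G} {u v t x : G}

theorem sq (h : W1 n D L) (hu : u ∈ D) : u * u = 1 := (h.pair hu).sq

theorem ne_one (h : W1 n D L) (hu : u ∈ D) : u ≠ 1 := (h.pair hu).ne_one

theorem mem (h : W1 n D L) (hu : u ∈ D) : u ∈ L u := (h.pair hu).mem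

theorem comp (h : W1 n D L) (hu : u ∈ D) : IsComp (centralizer ({u} : Set G)) (L u) :=
  (h.pair hu).comp

/-- elements of `L u` commute with `u` -/
theorem comm (h : W1 n D L) (hu : u ∈ D) (hx : x ∈ L u) : x * u = u * x := pair_comm (h.pair hu) hx

theorem norm (h : W1 n D L) (hu : u ∈ D) {a : G} (ha : a * u = u * a) :
    a ∈ normalizer (L u : Set G) := by
  have h1 := h.L_conj hu a
  rw [ha, mul_inv_cancel_right] at h1
  rw [mem_normalizer_iff_cj]
  exact h1.symm

theorem nonempty_act (h : W1 n D L) (hu : u ∈ D) : Nonempty (Act n u (L u)) :=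
  exists_act (h.pair hu) (by have := h.le; omega) fun _ ha =>
    h.norm hu (mem_centralizer_singleton_iff.mp ha)

/-- the action of `C(u)` on `L u` -/
noncomputable def act (h : W1 n D L) (hu : u ∈ D) : Act n u (L u) := (h.nonempty_act hu).some

/-- involutions of `L u` other than `u` act on `L u` as permutations of type `2^4` -/
theorem card_support (h : W1 n D L) (A : Act n u (L u)) (ht : t ∈ L u)
    (htt : t * t = 1) (ht1 : t ≠ 1) (htu : t ≠ u) : (A.f t).support.card = 8 :=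
  A.card_support (by have := h.le'; omega) ht htt ht1 htu

theorem exists_conj (h : W1 n D L) (hu : u ∈ D) {s t : G} (hs : s ∈ L u) (ht : t ∈ L u)
    (hss : s * s = 1) (htt : t * t = 1) (hs1 : s ≠ 1) (ht1 : t ≠ 1) (hsu : s ≠ u) (htu : t ≠ u) :
    ∃ g ∈ L u, g * s * g⁻¹ = t :=
  (h.act hu).exists_conj (by have := h.le'; omega) hs ht hss htt hs1 ht1 hsu htu

/-- the involutions of `L u` are in `D` -/
theorem inv_mem (h : W1 n D L) (hu : u ∈ D) (ht : t ∈ L u) (htt : t * t = 1) (ht1 : t ≠ 1) :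
    t ∈ D := by
  by_cases htu : t = u
  · rwa [htu]
  obtain ⟨w, hw, hwD, hwu⟩ := h.four hu
  obtain ⟨g, -, rfl⟩ := h.exists_conj hu hw ht (h.sq hwD) htt (h.ne_one hwD) ht1 hwu htu
  exact h.conj hwD g

/-- involutions of `L u` other than `u` do not fix `L u` -/
theorem not_fixes (h : W1 n D L) (hu : u ∈ D) (ht : t ∈ L u) (htt : t * t = 1) (ht1 : t ≠ 1)
    (htu : t ≠ u) : ¬ Fixes t (L u) := fun hf =>
  (h.act hu).f_ne_one ht htt ht1 htu (((h.act hu).ker (h.comm hu ht)).mpr hf)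

theorem fixes_self (h : W1 n D L) (hu : u ∈ D) : Fixes u (L u) :=
  ((h.act hu).ker rfl).mp (h.act hu).f_u

/-- `t ∈ L u`, `t` an involution, `t` fixes `L u`: `t = u` -/
theorem eq_of_fixes (h : W1 n D L) (hu : u ∈ D) (ht : t ∈ L u) (htt : t * t = 1) (ht1 : t ≠ 1)
    (hf : Fixes t (L u)) : t = u := by
  by_contra htu
  exact h.not_fixes hu ht htt ht1 htu hf

theorem exists_inv (h : W1 n D L) (hu : u ∈ D) : ∃ t ∈ L u, t * t = 1 ∧ t ≠ 1 ∧ t ≠ u := by
  obtain ⟨t, ht, h1, h2⟩ := (h.act hu).exists_inv h.le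
  exact ⟨t, ht, h1, ((h.act hu).ne_of_card h2)⟩

theorem exists_inv_comm (h : W1 n D L) (hu : u ∈ D) {V : Subgroup G} (hV : IsPGroup 2 V)
    (hVu : ∀ a ∈ V, a * u = u * a) (hf : ∀ a ∈ V, Fixes a (L u)) :
    ∃ t ∈ L u, t * t = 1 ∧ t ≠ 1 ∧ t ≠ u ∧ ∀ a ∈ V, a * t = t * a := by
  obtain ⟨t, ht, h1, h2, h3⟩ := (h.act hu).exists_inv_comm h.le hV hVu hf
  exact ⟨t, ht, h1, ((h.act hu).ne_of_card h2).1, ((h.act hu).ne_of_card h2).2, h3⟩

/-- an involution of `L u` other than `u` commuting with the 2-element `a` fixing `L u` -/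
theorem exists_inv_comm_one (h : W1 n D L) (hu : u ∈ D) {a : G} {m : ℕ} (ham : a ^ 2 ^ m = 1)
    (ha : a * u = u * a) (hf : Fixes a (L u)) :
    ∃ t ∈ L u, t * t = 1 ∧ t ≠ 1 ∧ t ≠ u ∧ a * t = t * a := by
  have hV : IsPGroup 2 (zpowers a) := by
    rintro ⟨_, k, rfl⟩
    refine ⟨m, ?_⟩
    apply Subtype.ext
    change (a ^ k) ^ 2 ^ m = 1
    rw [← zpow_natCast, ← zpow_mul, mul_comm, zpow_mul, zpow_natCast, ham, one_zpow]
  have hac : a ∈ centralizer ({u} : Set G) := mem_centralizer_singleton_iff.mpr ha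
  have hle : zpowers a ≤ cenMod (centralizer ({u} : Set G)) (L u) :=
    zpowers_le.mpr (((h.comp hu).fixes_iff hac).mp hf)
  have hc : ∀ b ∈ zpowers a, b ∈ centralizer ({u} : Set G) := fun b hb => cenMod_le _ _ (hle hb)
  obtain ⟨t, ht, h1, h2, h3, h4⟩ := h.exists_inv_comm hu hV
    (fun b hb => mem_centralizer_singleton_iff.mp (hc b hb))
    (fun b hb => ((h.comp hu).fixes_iff (hc b hb)).mpr (hle hb))
  exact ⟨t, ht, h1, h2, h3, h4 a (mem_zpowers a)⟩

theorem small_or_big (h : W1 n D L) (hu : u ∈ D) (hxx : x * x = 1) (hx1 : x ≠ 1)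
    (hx : x * u = u * x) (hf : Fixes x (L u)) : IsSmall (L u) x ∨ IsBig n u (L u) x :=
  isSmall_or_isBig h.ih h.le h.cent (h.pair hu) hxx hx1 hx hf

/-- **(5.1)** -/
theorem mem_of_mem (h : W1 n D L) (hu : u ∈ D) (ht : t ∈ L u) (htt : t * t = 1) (ht1 : t ≠ 1) :
    u ∈ L t := by
  by_cases htu : t = u
  · rw [htu]; exact h.mem hu
  have htD := h.inv_mem hu ht htt ht1
  have hc := h.comm hu ht
  have hnf := h.not_fixes hu ht htt ht1 htu
  have hnf' : ¬ Fixes u (L t) := fun hf => hnf (h.symm htD hu hc hf)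
  obtain ⟨a, haL, ha⟩ := h.swap hu htD hc.symm hnf
  obtain ⟨b, hbL, hb⟩ := h.swap htD hu hc hnf'
  -- `a`: fixes `u`, `t ↦ t u`;  `b`: fixes `t`, `u ↦ u t`
  have hau : a⁻¹ * u * a = u := by
    rw [mul_assoc, ← h.comm hu haL, inv_mul_cancel_left]
  have hbt : b⁻¹ * t * b = t := by
    rw [mul_assoc, ← h.comm htD hbL, inv_mul_cancel_left]
  -- `g = a * b * a`
  obtain ⟨g, hg⟩ : ∃ g, g = a * b * a := ⟨_, rfl⟩
  have e1 : g⁻¹ * u * g = t := by
    have : g⁻¹ * u * g = a⁻¹ * (b⁻¹ * (a⁻¹ * u * a) * b) * a := by rw [hg]; group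
    rw [this, hau, hb, show a⁻¹ * (u * t) * a = (a⁻¹ * u * a) * (a⁻¹ * t * a) by group, hau, ha,
      hc, ← mul_assoc, h.sq hu, one_mul]
  have e2 : g⁻¹ * t * g = u := by
    have : g⁻¹ * t * g = a⁻¹ * (b⁻¹ * (a⁻¹ * t * a) * b) * a := by rw [hg]; group
    rw [this, ha, show b⁻¹ * (t * u) * b = (b⁻¹ * t * b) * (b⁻¹ * u * b) by group, hbt, hb,
      ← hc, ← mul_assoc t t u, h.sq htD, one_mul, hau]
  have e3 : L t = cj g⁻¹ (L u) := by
    have := h.L_conj hu g⁻¹
    rw [inv_inv, e1] at this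
    exact this
  rw [e3]
  have := conj_mem_cj (g := g⁻¹) ht
  rwa [inv_inv, e2] at this

end W1

end Cfsg.Agent.Intrinsic.WOne
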