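import Cfsg.Agent.Intrinsic.Types
import Cfsg.Agent.Intrinsic.ANFactInv
import Cfsg.Agent.Intrinsic.Quot

/-!
# The action of `C(u)` on `X / O(X)` for a pair `(u, X)` with `X` normal in `C(u)`

`Act n u X`: a total function `f : G → Perm (Fin n)`, multiplicative on `C(u)`, with `f a = 1 ↔ Fixes a X` on `C(u)` and
`f x` = the image in the alternating group on `X`.
-/

set_option autoImplicit false

open Cfsg Subgroup Equiv
open Cfsg.Agent.SignalizersComponents Cfsg.Agent.Lib
open Cfsg.Agent.SignalizersComponents.IntrinsicBasic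
open Cfsg.Agent.SporRec.TwoAn
open Cfsg.Agent.Intrinsic.Basic Cfsg.Agent.Intrinsic.Cen Cfsg.Agent.Intrinsic.Quot
open Cfsg.Agent.Intrinsic.Bridge Cfsg.Agent.Intrinsic.Types
open scoped commutatorElement

namespace Cfsg.Agent.Intrinsic.WOne

/-- The action of `C(u)` on `X / O(X) = 2.A_n`. -/
structure Act {G : Type*} [Group G] [Finite G] (n : ℕ) (u : G) (X : Subgroup G) where
  /-- the action -/
  f : G → Perm (Fin n)
  map_mul : ∀ {a b : G}, a * u = u * a → b * u = u * b → f (a * b) = f a * f b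
  ker : ∀ {a : G}, a * u = u * a → (f a = 1 ↔ Fixes a X)
  /-- the cover -/
  cov : Cover (Fin n) (↥X ⧸ oddCore ↥X)
  mem : u ∈ X
  sq : u * u = 1
  ne_one : u ≠ 1
  isComp : IsComp (centralizer ({u} : Set G)) X
  norm : ∀ {a : G}, a * u = u * a → a ∈ normalizer (X : Set G)
  cov_z : cov.z = QuotientGroup.mk ⟨u, mem⟩
  comm : ∀ {x : G}, x ∈ X → x * u = u * x
  f_cov : ∀ {x : G} (hx : x ∈ X), f x = cov.π (QuotientGroup.mk ⟨x, hx⟩)
  pair : IsPair n u X
  /-- the action of `(N(X) ∩ C(u)) / O(X)` -/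
  S : QAct (QX u X) n (mkQ u X u (le_NX pair pair.mem))
  isAct : IsAct pair S
  f_S : ∀ {a : G} (ha : a ∈ NX u X), f a = S.φ (mkQ u X a ha)

variable {G : Type*} [Group G] [Finite G] {n : ℕ} {u : G} {X : Subgroup G}

theorem exists_act (h : IsPair n u X) (hn : 7 ≤ n)
    (hX : centralizer ({u} : Set G) ≤ normalizer (X : Set G)) : Nonempty (Act n u X) := by
  classical
  obtain ⟨S, hS⟩ := exists_isAct h hn
  have hmem : ∀ {a : G}, a * u = u * a → a ∈ NX u X := fun ha =>
    mem_NX.mpr ⟨hX (mem_centralizer_singleton_iff.mpr ha), ha⟩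
  -- the isomorphism `X / O(X) ≃ S.L`
  let g : ↥X →* ↥S.L :=
    { toFun := fun x => ⟨mkQ u X x (le_NX h x.2), (hS.mem_L _ _).mpr x.2⟩
      map_one' := rfl
      map_mul' := fun _ _ => rfl }
  have hg : Function.Surjective g := by
    rintro ⟨y, hy⟩
    obtain ⟨a, ha, rfl⟩ := exists_mkQ (x := y)
    exact ⟨⟨a, (hS.mem_L a ha).mp hy⟩, rfl⟩
  have hker : oddCore ↥X = g.ker := by
    ext x
    rw [MonoidHom.mem_ker, Subtype.ext_iff]
    change _ ↔ mkQ u X x _ = 1
    rw [mkQ_eq_one_iff, mem_core_iff x.2]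
  obtain ⟨e, he⟩ : ∃ e : (↥X ⧸ oddCore ↥X) ≃* ↥S.L, ∀ (x : G) (hx : x ∈ X),
      ((e (QuotientGroup.mk ⟨x, hx⟩) : ↥S.L) : QX u X) = mkQ u X x (le_NX h hx) :=
    ⟨(QuotientGroup.quotientMulEquivOfEq hker).trans
      (QuotientGroup.quotientKerEquivOfSurjective g hg), fun x hx => rfl⟩
  refine ⟨⟨fun a => if ha : a ∈ NX u X then S.φ (mkQ u X a ha) else 1,
    ?_, ?_, S.cov.map e.symm, h.mem, h.sq, h.ne_one, h.comp, fun ha => (mem_NX.mp (hmem ha)).1, ?_, ?_, ?_,
    h, S, hS, ?_⟩⟩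
  · intro a b ha hb
    have ha' := hmem ha
    have hb' := hmem hb
    have hab := mul_mem ha' hb'
    simp only [dif_pos ha', dif_pos hb', dif_pos hab]
    rw [← MonoidHom.map_mul, mkQ_mul]
  · intro a ha
    have ha' := hmem ha
    simp only [dif_pos ha']
    exact hS.φ_one a ha'
  · show e.symm S.cov.z = _
    rw [MulEquiv.symm_apply_eq]
    apply Subtype.ext
    rw [he, S.cov_z]
  · intro x hx
    exact pair_comm h hx
  · intro x hx
    have hx' := hmem (pair_comm h hx)
    simp only [dif_pos hx']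
    show _ = S.cov.π (e (QuotientGroup.mk ⟨x, hx⟩))
    rw [← S.φ_L, he]
  · intro a ha
    simp only [dif_pos ha]

section perm

/-- permutations of type `2^4` are even -/
theorem even_of_eight {n : ℕ} {σ : Perm (Fin n)} (h2 : σ * σ = 1) (h8 : σ.support.card = 8) :
    σ ∈ alternatingGroup (Fin n) := by
  have h4 := Cfsg.Agent.SporRec.TwoAnEleven.cycleType_of_involution (σ := σ) h2 (k := 4) h8
  rw [Perm.mem_alternatingGroup, Perm.sign_of_cycleType, h4]
  decide

theorem exists_eight {n : ℕ} (hn : 8 ≤ n) : ∃ σ : Perm (Fin n), σ * σ = 1 ∧ σ.support.card = 8 := by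
  let e : Fin 8 ↪ Fin n := ⟨fun i => ⟨i, by omega⟩, fun i j h => by
    have := congrArg Fin.val h
    exact Fin.ext this⟩
  let τ : Perm (Fin 8) := swap 0 1 * swap 2 3 * (swap 4 5 * swap 6 7)
  have hτ2 : τ * τ = 1 := by decide
  have hτc : τ.support.card = 8 := by decide
  let σ : Perm (Fin n) := τ.viaFintypeEmbedding e
  have hσ2 : σ * σ = 1 := by
    ext a
    by_cases ha : a ∈ Set.range e
    · obtain ⟨i, rfl⟩ := ha
      rw [Perm.mul_apply, Perm.viaFintypeEmbedding_apply_image, Perm.viaFintypeEmbedding_apply_image,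
        ← Perm.mul_apply, hτ2]
      rfl
    · rw [Perm.mul_apply, Perm.viaFintypeEmbedding_apply_notMem_range _ _ ha,
        Perm.viaFintypeEmbedding_apply_notMem_range _ _ ha]
      rfl
  refine ⟨σ, hσ2, ?_⟩
  have h1 : σ.support = τ.support.map e := by
    ext a
    rw [Perm.mem_support, Finset.mem_map]
    constructor
    · intro h
      by_cases ha : a ∈ Set.range e
      · obtain ⟨i, rfl⟩ := ha
        refine ⟨i, ?_, rfl⟩
        rw [Perm.mem_support]
        intro h'
        apply h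
        rw [Perm.viaFintypeEmbedding_apply_image, h']
      · exact absurd (Perm.viaFintypeEmbedding_apply_notMem_range _ _ ha) h
    · rintro ⟨i, hi, rfl⟩
      rw [Perm.viaFintypeEmbedding_apply_image]
      rw [Perm.mem_support] at hi
      exact fun h' => hi (e.injective h')
  rw [h1, Finset.card_map, hτc]

end perm

section comm

variable {G : Type*} [Group G]

theorem comm_inv {u a : G} (ha : a * u = u * a) : a⁻¹ * u = u * a⁻¹ := by
  rw [inv_mul_eq_iff_eq_mul, ← mul_assoc, ha, mul_inv_cancel_right]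

theorem comm_mul {u a b : G} (ha : a * u = u * a) (hb : b * u = u * b) : a * b * u = u * (a * b) := by
  rw [mul_assoc, hb, ← mul_assoc, ha, mul_assoc]

end comm

namespace Act

variable (A : Act n u X)

include A

theorem f_one : A.f 1 = 1 := by
  have h := A.map_mul (a := 1) (b := 1) (by group) (by group)
  rw [mul_one] at h
  exact left_eq_mul.mp h

/-- the action as a homomorphism on the centralizer -/
def hom : ↥(centralizer ({u} : Set G)) →* Perm (Fin n) where
  toFun a := A.f a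
  map_one' := A.f_one
  map_mul' a b := A.map_mul (mem_centralizer_singleton_iff.mp a.2)
    (mem_centralizer_singleton_iff.mp b.2)

theorem hom_apply (a : ↥(centralizer ({u} : Set G))) : A.hom a = A.f a := rfl

theorem f_inv {a : G} (ha : a * u = u * a) : A.f a⁻¹ = (A.f a)⁻¹ := by
  have h := A.map_mul (a := a⁻¹) (b := a) (by rw [inv_mul_eq_iff_eq_mul, ← mul_assoc, ha, mul_inv_cancel_right]) ha
  rw [inv_mul_cancel, A.f_one] at h
  exact eq_inv_of_mul_eq_one_left h.symm

theorem f_conj {a b : G} (ha : a * u = u * a) (hb : b * u = u * b) :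
    A.f (a * b * a⁻¹) = A.f a * A.f b * (A.f a)⁻¹ := by
  rw [A.map_mul (comm_mul ha hb) (comm_inv ha), A.map_mul ha hb, A.f_inv ha]

theorem f_u : A.f u = 1 := by
  rw [A.f_cov A.mem, ← A.cov_z, A.cov.π_z]

theorem even {x : G} (hx : x ∈ X) : A.f x ∈ alternatingGroup (Fin n) := by
  rw [A.f_cov hx]; exact A.cov.mem_alternating _

theorem lift {σ : Perm (Fin n)} (hσ : σ ∈ alternatingGroup (Fin n)) : ∃ x ∈ X, A.f x = σ := by
  obtain ⟨g, hg⟩ := A.cov.exists_lift hσ
  obtain ⟨⟨x, hx⟩, rfl⟩ := QuotientGroup.mk_surjective g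
  exact ⟨x, hx, (A.f_cov hx).trans hg⟩

/-- elements fixing `X` act trivially -/
theorem f_mul_of_fixes {a c : G} (ha : a * u = u * a) (hc : c * u = u * c) (h : Fixes c X) :
    A.f (a * c) = A.f a := by
  rw [A.map_mul ha hc, (A.ker hc).mpr h, mul_one]

theorem fixes_of_core {c : G} (hc : c ∈ core X) : Fixes c X :=
  A.isComp.fixes_of_core (A.isComp.core_le_core hc)

theorem comm_of_core {c : G} (hc : c ∈ core X) : c * u = u * c := A.comm (core_le X hc)

theorem f_of_core {c : G} (hc : c ∈ core X) : A.f c = 1 :=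
  (A.ker (A.comm_of_core hc)).mpr (A.fixes_of_core hc)

theorem f_mul_core {a c : G} (ha : a * u = u * a) (hc : c ∈ core X) : A.f (a * c) = A.f a :=
  A.f_mul_of_fixes ha (A.comm_of_core hc) (A.fixes_of_core hc)

/-- congruent elements have the same image -/
theorem f_congr {a b : G} (ha : a * u = u * a) (h : a⁻¹ * b ∈ core X) : A.f b = A.f a := by
  have := A.f_mul_core ha h
  rwa [mul_inv_cancel_left] at this

theorem mem_core_or {x : G} (hx : x ∈ X) (h : A.f x = 1) : x ∈ core X ∨ u * x ∈ core X := by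
  rw [A.f_cov hx, A.cov.ker] at h
  rcases h with h | h
  · left; rwa [mk_eq_one_iff] at h
  · right
    rw [A.cov_z] at h
    have h1 := (mk_eq_mk_iff' A.mem hx).mp h.symm
    rwa [inv_eq_of_mul_eq_one_left A.sq] at h1

/-- an element acting as the element `x` of `X` is congruent to it modulo the kernel -/
theorem fixes_of_eq {a x : G} (ha : a * u = u * a) (hx : x ∈ X) (h : A.f a = A.f x) :
    Fixes (x⁻¹ * a) X := by
  have hx' := A.comm hx
  rw [← A.ker (comm_mul (comm_inv hx') ha), A.map_mul (comm_inv hx') ha, A.f_inv hx', h,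
    inv_mul_cancel]

/-- `a` acting as `x` commutes with `x` modulo the core -/
theorem comm_of_eq {a x : G} (ha : a * u = u * a) (hx : x ∈ X) (h : A.f a = A.f x) :
    x⁻¹ * (a * x * a⁻¹) ∈ core X := by
  have h1 := (fixes_iff_conj.mp (A.fixes_of_eq ha hx h)).2 x hx
  have h2 := conj_mem_core (x := x) (le_normalizer hx) h1
  convert h2 using 1
  group

theorem comm_or {a x : G} (ha : a * u = u * a) (hx : x ∈ X) (h : A.f a * A.f x = A.f x * A.f a) :
    x⁻¹ * (a * x * a⁻¹) ∈ core X ∨ u * (x⁻¹ * (a * x * a⁻¹)) ∈ core X := by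
  have h1 : a * x * a⁻¹ ∈ X := (mem_normalizer_iff.mp (A.norm ha) x).mp hx
  apply A.mem_core_or (X.mul_mem (X.inv_mem hx) h1)
  have hx' := A.comm hx
  rw [A.map_mul (comm_inv hx') (A.comm h1), A.f_conj ha hx', A.f_inv hx', h]
  group

/-- two elements of `X` with disjoint supports commute modulo the core -/
theorem comm_of_disjoint {x y : G} (hx : x ∈ X) (hy : y ∈ X) (h : (A.f x).Disjoint (A.f y)) :
    x⁻¹ * (y * x * y⁻¹) ∈ core X := by
  rw [← mk_comm_iff hx hy]
  apply A.cov.commute_of_disjoint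
  rwa [← A.f_cov, ← A.f_cov]

theorem f_sq {a : G} (ha : a * u = u * a) (h : a * a = 1) : A.f a * A.f a = 1 := by
  rw [← A.map_mul ha ha, h, A.f_one]

theorem f_ne_one {t : G} (ht : t ∈ X) (htt : t * t = 1) (h1 : t ≠ 1) (hu : t ≠ u) : A.f t ≠ 1 := by
  intro h
  rcases A.mem_core_or ht h with h | h
  · exact h1 (eq_one_of_mem_core_sq h htt)
  · have h2 : u * t = 1 := by
      apply eq_one_of_mem_core_sq h
      rw [mul_assoc, ← mul_assoc t, A.comm ht, mul_assoc u t t, htt, mul_one, A.sq]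
    apply hu
    have h3 : t = u⁻¹ := eq_inv_of_mul_eq_one_right h2
    rw [h3, inv_eq_of_mul_eq_one_left A.sq]

/-- involutions of `X` other than `u` move eight points -/
theorem card_support (hn : n < 16) {t : G} (ht : t ∈ X) (htt : t * t = 1) (h1 : t ≠ 1)
    (hu : t ≠ u) : (A.f t).support.card = 8 := by
  have h2 := A.f_ne_one ht htt h1 hu
  have h3 : (QuotientGroup.mk ⟨t, ht⟩ : ↥X ⧸ oddCore ↥X) * QuotientGroup.mk ⟨t, ht⟩ = 1 := by
    change (QuotientGroup.mk ⟨t * t, X.mul_mem ht ht⟩ : ↥X ⧸ oddCore ↥X) = 1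
    rw [mk_eq_one_iff, htt]
    exact one_mem _
  obtain ⟨-, k, hk⟩ := A.cov.sq_eq_one_iff.1 h3
  rw [← A.f_cov ht] at hk
  have h4 : (A.f t).support.card ≤ Fintype.card (Fin n) := Finset.card_le_univ _
  rw [Fintype.card_fin] at h4
  have h5 : (A.f t).support.card ≠ 0 := by
    rw [Ne, Finset.card_eq_zero, Perm.support_eq_empty_iff]
    exact h2
  omega

/-- squares of lifts of permutations of type `2^4` are in the core -/
theorem sq_mem_core {x : G} (hx : x ∈ X) (h : A.f x * A.f x = 1) (h8 : (A.f x).support.card = 8) :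
    x * x ∈ core X := by
  rw [← mk_eq_one_iff (X.mul_mem hx hx)]
  change (QuotientGroup.mk ⟨x, hx⟩ : ↥X ⧸ oddCore ↥X) * QuotientGroup.mk ⟨x, hx⟩ = 1
  rw [A.cov.sq_eq_one_iff, ← A.f_cov hx]
  exact ⟨h, by rw [h8]⟩

/-- an involution of `X` over a permutation of type `2^4`, commuting with a given 2-element acting
as this permutation -/
theorem exists_involution {a : G} (ha : a * u = u * a) {m : ℕ} (ham : a ^ 2 ^ m = 1)
    (h2 : A.f a * A.f a = 1) (h8 : (A.f a).support.card = 8) :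
    ∃ l ∈ X, l * l = 1 ∧ a * l = l * a ∧ A.f l = A.f a := by
  obtain ⟨x, hx, hxa⟩ := A.lift (even_of_eight h2 h8)
  have h3 := A.sq_mem_core hx (by rw [hxa, h2]) (by rw [hxa, h8])
  have h4 := A.comm_of_eq ha hx hxa.symm
  have haN : a ∈ normalizer (core X : Set G) := normalizer_le_normalizer_core X (A.norm ha)
  obtain ⟨o, ho, h5, h6⟩ := Lifting.exists_involution (odd_card_core X) ham haN
    (le_normalizer_core X hx) h3 h4
  refine ⟨x * o, X.mul_mem hx (core_le X ho), h5, h6, ?_⟩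
  rw [A.f_mul_core (A.comm hx) ho, hxa]

/-- lifting an element of `X` commuting with a 2-element modulo the core -/
theorem exists_comm {a x : G} (ha : a * u = u * a) {m : ℕ} (ham : a ^ 2 ^ m = 1) (hx : x ∈ X)
    (h : x⁻¹ * (a * x * a⁻¹) ∈ core X) : ∃ y ∈ X, a * y = y * a ∧ A.f y = A.f x ∧ x⁻¹ * y ∈ core X := by
  obtain ⟨o, ho, h5⟩ := Lifting.exists_commute (odd_card_core X) ham
    (normalizer_le_normalizer_core X (A.norm ha)) h
  refine ⟨x * o, X.mul_mem hx (core_le X ho), h5, A.f_mul_core (A.comm hx) ho, ?_⟩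
  rwa [inv_mul_cancel_left]

/-- involutions of `X` other than `u` are conjugate -/
theorem exists_conj (hn : n < 16) {s t : G} (hs : s ∈ X) (ht : t ∈ X) (hss : s * s = 1)
    (htt : t * t = 1) (hs1 : s ≠ 1) (ht1 : t ≠ 1) (hsu : s ≠ u) (htu : t ≠ u) :
    ∃ g ∈ X, g * s * g⁻¹ = t := by
  have key : ∀ {t : G} (ht : t ∈ X), t * t = 1 →
      (QuotientGroup.mk ⟨t, ht⟩ : ↥X ⧸ oddCore ↥X) * QuotientGroup.mk ⟨t, ht⟩ = 1 := by
    intro t ht htt
    change (QuotientGroup.mk ⟨t * t, X.mul_mem ht ht⟩ : ↥X ⧸ oddCore ↥X) = 1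
    rw [mk_eq_one_iff, htt]
    exact one_mem _
  obtain ⟨w, hw⟩ := StandardComponent.CoverExtra.exists_conj_of_card_lt A.cov
    (by rwa [Fintype.card_fin]) (key hs hss) (key ht htt)
    (by rw [← A.f_cov]; exact A.f_ne_one hs hss hs1 hsu)
    (by rw [← A.f_cov]; exact A.f_ne_one ht htt ht1 htu)
  obtain ⟨⟨w, hwX⟩, rfl⟩ := QuotientGroup.mk_surjective w
  have h1 : w * s * w⁻¹ ∈ X := X.mul_mem (X.mul_mem hwX hs) (X.inv_mem hwX)
  have h2 : (w * s * w⁻¹)⁻¹ * t ∈ core X := (mk_eq_mk_iff' h1 ht).mp hw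
  obtain ⟨o, ho, h3⟩ := Lifting.exists_conj_eq (odd_card_core X) (v := w * s * w⁻¹) (v' := t)
    (n := 1) (m := 1) (by rw [pow_one, pow_two, show w * s * w⁻¹ * (w * s * w⁻¹) = w * (s * s) * w⁻¹ by group, hss]; group)
    (by rw [pow_one, pow_two, htt]) (le_normalizer_core X h1) h2
  refine ⟨o * w, X.mul_mem (core_le X ho) hwX, ?_⟩
  rw [← h3]; group

/-- `t` and `t u` are conjugate in `X` -/
theorem exists_conj_mul (hn : n < 16) {t : G} (ht : t ∈ X) (htt : t * t = 1) (ht1 : t ≠ 1)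
    (htu : t ≠ u) : ∃ g ∈ X, g * t * g⁻¹ = t * u := by
  have h1 := A.comm ht
  refine A.exists_conj hn ht (X.mul_mem ht A.mem) htt ?_ ht1 ?_ htu ?_
  · rw [mul_assoc, ← mul_assoc u t u, ← h1, mul_assoc t u u, A.sq, mul_one, htt]
  · intro h
    apply htu
    rw [← inv_eq_of_mul_eq_one_left h, inv_eq_of_mul_eq_one_left A.sq]
  · intro h
    exact ht1 (mul_eq_right.mp h)

/-- involutions of `X` over a permutation of type `2^4` -/
theorem exists_inv_over {σ : Perm (Fin n)} (h2 : σ * σ = 1) (h8 : σ.support.card = 8) :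
    ∃ t ∈ X, t * t = 1 ∧ A.f t = σ := by
  obtain ⟨x, hx, rfl⟩ := A.lift (even_of_eight h2 h8)
  have h3 := A.sq_mem_core hx h2 h8
  obtain ⟨o, ho, h5, -⟩ := Lifting.exists_involution (odd_card_core X) (v := 1) (n := 0)
    (one_pow _) (one_mem _) (le_normalizer_core X hx) h3 (by
      rw [one_mul, inv_one, mul_one, inv_mul_cancel]
      exact one_mem _)
  exact ⟨x * o, X.mul_mem hx (core_le X ho), h5, A.f_mul_core (A.comm hx) ho⟩

/-- there are involutions of `X` other than `u` -/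
theorem exists_inv (hn : 8 ≤ n) : ∃ t ∈ X, t * t = 1 ∧ (A.f t).support.card = 8 := by
  obtain ⟨σ, h2, h8⟩ := exists_eight hn
  obtain ⟨t, ht, h3, rfl⟩ := A.exists_inv_over h2 h8
  exact ⟨t, ht, h3, h8⟩

theorem ne_of_card {t : G} (h8 : (A.f t).support.card = 8) : t ≠ 1 ∧ t ≠ u := by
  constructor
  · rintro rfl
    rw [A.f_one, Perm.support_one, Finset.card_empty] at h8
    exact absurd h8 (by norm_num)
  · rintro rfl
    rw [A.f_u, Perm.support_one, Finset.card_empty] at h8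
    exact absurd h8 (by norm_num)

/-- involutions commuting with a 2-group fixing `X` -/
theorem exists_inv_comm (hn : 8 ≤ n) {V : Subgroup G} (hV : IsPGroup 2 V)
    (hVu : ∀ a ∈ V, a * u = u * a) (hf : ∀ a ∈ V, Fixes a X) :
    ∃ t ∈ X, t * t = 1 ∧ (A.f t).support.card = 8 ∧ ∀ a ∈ V, a * t = t * a := by
  obtain ⟨t₀, ht₀, h3, h8⟩ := A.exists_inv hn
  have hVN : V ≤ normalizer (core X : Set G) := fun a ha =>
    normalizer_le_normalizer_core X (A.norm (hVu a ha))
  obtain ⟨o, ho, h4⟩ := Lifting.exists_commute_group (odd_card_core X) hV hVN (m := t₀)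
    (fun a ha => (fixes_iff_conj.mp (hf a ha)).2 t₀ ht₀)
  have h5 : (t₀ * o) ^ 2 ^ 1 ∈ core X := by
    have h6 := conj_mem_core (x := t₀) (le_normalizer ht₀) ho
    have h7 : (t₀ * o) ^ 2 ^ 1 = (t₀ * o * t₀⁻¹) * (t₀ * t₀) * o := by
      rw [pow_one, pow_two]; group
    rw [h7, h3, mul_one]
    exact mul_mem h6 ho
  obtain ⟨k, h6, h7⟩ := Lifting.exists_two_part (odd_card_core X) h5
  have hmem : t₀ * o ∈ X := X.mul_mem ht₀ (core_le X ho)
  refine ⟨(t₀ * o) ^ k, X.pow_mem hmem k, by rwa [pow_one, pow_two] at h6, ?_, fun a ha => ?_⟩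
  · rw [A.f_congr (A.comm hmem) h7, A.f_mul_core (A.comm ht₀) ho, h8]
  · exact ((show Commute a (t₀ * o) from h4 a ha).pow_right k).eq

/-- coverage of `cen X v` -/
theorem exists_cen {v : G} (hv : v * u = u * v) (hvv : v * v = 1) (hf : Fixes v X)
    {σ : Perm (Fin n)} (hσ : σ ∈ alternatingGroup (Fin n)) : ∃ x ∈ cen X v, A.f x = σ := by
  obtain ⟨x, hx, rfl⟩ := A.lift hσ
  have h1 := (isComp_cen A.isComp (mem_centralizer_singleton_iff.mpr hv) hvv hf).2
  obtain ⟨j, hj, hc⟩ := exists_mul_of_sup h1 hx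
  exact ⟨j, hj, (A.f_congr (A.comm (cen_le X v hj)) hc).symm⟩

end Act

end Cfsg.Agent.Intrinsic.WOne
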