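import Cfsg.Agent.Intrinsic.WOne.Base
import Cfsg.Agent.Intrinsic.AnFive

/-!
# Exact extraspecial configurations (for (5.2) and (5.4))

`exists_exact`: in an `n`-pair `(u, X)`, for an involution `t ∈ X` of type `2^4` and a 2-element `x` fixing `X` and
commuting with `t`, there are `a, b, c, d ∈ X` commuting with `x` and `t` which satisfy the relations
`AnFive.FiveRel u t a b c d` exactly.
-/

set_option autoImplicit false

open Cfsg Subgroup Equiv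
open Cfsg.Agent.SignalizersComponents Cfsg.Agent.Lib
open Cfsg.Agent.SignalizersComponents.IntrinsicBasic
open Cfsg.Agent.SporRec.TwoAn
open Cfsg.Agent.Intrinsic.Basic Cfsg.Agent.Intrinsic.Cen Cfsg.Agent.Intrinsic.Quot
open Cfsg.Agent.Intrinsic.AnFive

namespace Cfsg.Agent.Intrinsic.WOne

section lemmas

variable {C D : Type*} [Group C] [Group D]

theorem fiveRel_of_injective (φ : D →* C) (hφ : Function.Injective φ) {z t u f c d : D}
    (h : FiveRel (φ z) (φ t) (φ u) (φ f) (φ c) (φ d)) : FiveRel z t u f c d where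
  tu := hφ (by rw [map_mul, h.tu, map_mul])
  tf := hφ (by rw [map_mul, h.tf, map_mul])
  tc := hφ (by rw [map_mul, h.tc, map_mul])
  td := hφ (by rw [map_mul, h.td, map_mul])
  uu := hφ (by rw [map_mul, h.uu])
  ff := hφ (by rw [map_mul, h.ff])
  uf := hφ (by rw [map_mul, h.uf, map_mul, map_mul])
  cu := h.cu.imp (fun h => hφ (by rw [map_mul, h, map_mul]))
    (fun h => hφ (by rw [map_mul, h, map_mul, map_mul]))
  cf := h.cf.imp (fun h => hφ (by rw [map_mul, h, map_mul]))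
    (fun h => hφ (by rw [map_mul, h, map_mul, map_mul]))
  du := h.du.imp (fun h => hφ (by rw [map_mul, h, map_mul]))
    (fun h => hφ (by rw [map_mul, h, map_mul, map_mul]))
  df := h.df.imp (fun h => hφ (by rw [map_mul, h, map_mul]))
    (fun h => hφ (by rw [map_mul, h, map_mul, map_mul]))
  cd := h.cd.imp (fun h => hφ (by rw [map_mul, h, map_mul, map_mul]))
    (fun h => hφ (by rw [map_mul, h, map_mul, map_mul, map_mul]))

/-- a 2-subgroup of the image of a homomorphism with odd kernel is the image of a 2-subgroup -/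
theorem exists_lift_two [Finite D] (ρ : D →* C) (S : Subgroup C)
    (hS : IsPGroup 2 S) (hSr : S ≤ ρ.range) : ∃ P : Subgroup D, IsPGroup 2 P ∧ P.map ρ = S := by
  have h2 : Fact (Nat.Prime 2) := ⟨Nat.prime_two⟩
  obtain ⟨P⟩ : Nonempty (Sylow 2 ↥(S.comap ρ)) := inferInstance
  refine ⟨(P : Subgroup ↥(S.comap ρ)).map (S.comap ρ).subtype, P.2.map _, ?_⟩
  let g : ↥(S.comap ρ) →* ↥S := (ρ.comp (S.comap ρ).subtype).codRestrict S (fun x => x.2)
  have hg : Function.Surjective g := by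
    rintro ⟨s, hs⟩
    obtain ⟨d, rfl⟩ := hSr hs
    exact ⟨⟨d, hs⟩, rfl⟩
  have hfin : Finite ↥S := Finite.of_surjective g hg
  have h3 : (P : Subgroup ↥(S.comap ρ)).map g = ⊤ := by
    have h4 : ((P : Subgroup ↥(S.comap ρ)).map g).index ∣ (P : Subgroup ↥(S.comap ρ)).index :=
      Subgroup.index_map_dvd _ hg
    have h5 : ¬ 2 ∣ (P : Subgroup ↥(S.comap ρ)).index := P.not_dvd_index
    obtain ⟨k, hk⟩ := hS.index ((P : Subgroup ↥(S.comap ρ)).map g)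
    rw [← Subgroup.index_eq_one]
    rcases Nat.eq_zero_or_pos k with h6 | h6
    · rw [hk, h6, pow_zero]
    · exact absurd ((dvd_pow_self 2 h6.ne').trans (hk ▸ h4)) h5
  rw [map_map]
  have h4 := congrArg (Subgroup.map S.subtype) h3
  rw [map_map, ← MonoidHom.range_eq_map, range_subtype] at h4
  exact h4

end lemmas

variable {G : Type*} [Group G] [Finite G] {n : ℕ} {u t x : G} {X : Subgroup G}

/-- exact lifting of an element commuting with `t` and `x` modulo the core -/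
theorem exists_comm_two {N : Subgroup G} (hN : Odd (Nat.card N)) {k m : ℕ} (hx : x ^ 2 ^ k = 1)
    (ht : t ^ 2 ^ m = 1) (hxN : x ∈ normalizer (N : Set G)) (htN : t ∈ normalizer (N : Set G))
    (hxt : x * t = t * x) {a : G} (hax : a⁻¹ * (x * a * x⁻¹) ∈ N) (hat : a⁻¹ * (t * a * t⁻¹) ∈ N) :
    ∃ o ∈ N, x * (a * o) = (a * o) * x ∧ t * (a * o) = (a * o) * t := by
  obtain ⟨o, ho, h1⟩ := Lifting.exists_commute hN hx hxN hax
  have hN' : Odd (Nat.card (N ⊓ centralizer ({x} : Set G) : Subgroup G)) :=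
    Odd.of_dvd_nat hN (card_dvd_of_le inf_le_left)
  have htx : t ∈ centralizer ({x} : Set G) := mem_centralizer_singleton_iff.mpr hxt.symm
  have hox : a * o ∈ centralizer ({x} : Set G) := mem_centralizer_singleton_iff.mpr h1.symm
  have htN' : t ∈ normalizer ((N ⊓ centralizer ({x} : Set G) : Subgroup G) : Set G) := by
    rw [mem_normalizer_iff_cj, cj_inf, mem_normalizer_iff_cj.mp htN, cj_eq_self_of_mem htx]
  have h4 : (a * o)⁻¹ * (t * (a * o) * t⁻¹) ∈ N := by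
    have e : (a * o)⁻¹ * (t * (a * o) * t⁻¹) = o⁻¹ * (a⁻¹ * (t * a * t⁻¹)) * (t * o * t⁻¹) := by group
    rw [e]
    exact N.mul_mem (N.mul_mem (N.inv_mem ho) hat) ((mem_normalizer_iff.mp htN o).mp ho)
  have h5 : (a * o)⁻¹ * (t * (a * o) * t⁻¹) ∈ centralizer ({x} : Set G) :=
    Subgroup.mul_mem _ (Subgroup.inv_mem _ hox)
      (Subgroup.mul_mem _ (Subgroup.mul_mem _ htx hox) (Subgroup.inv_mem _ htx))
  obtain ⟨o', ho', h2⟩ := Lifting.exists_commute hN' ht htN' (m := a * o) ⟨h4, h5⟩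
  refine ⟨o * o', N.mul_mem ho ho'.1, ?_, ?_⟩
  · have h3 := mem_centralizer_singleton_iff.mp (mul_mem hox ho'.2)
    rw [← mul_assoc a o o']; exact h3.symm
  · rw [← mul_assoc a o o']; exact h2

theorem exists_exact (A : Act n u X) (ht : t ∈ X) (htt : t * t = 1) (h8 : (A.f t).support.card = 8)
    {k : ℕ} (hx : x ^ 2 ^ k = 1) (hf : Fixes x X) (hxt : x * t = t * x) (hxu : x * u = u * x) :
    ∃ a b c d : G, FiveRel u t a b c d ∧ (a ∈ X ∧ b ∈ X ∧ c ∈ X ∧ d ∈ X) ∧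
      x * a = a * x ∧ x * b = b * x ∧ x * c = c * x ∧ x * d = d * x := by
  have htu := A.comm ht
  have hπ : A.cov.π (QuotientGroup.mk ⟨t, ht⟩) = A.f t := (A.f_cov ht).symm
  obtain ⟨a, b, c, d, S, hR, hS, hSt, -, ha, hb, hc, hd, hz, htS⟩ := exists_local A.cov
    (t := QuotientGroup.mk ⟨t, ht⟩) (by rw [hπ, A.f_sq htu htt]) (by rw [hπ, h8])
  obtain ⟨Y, hY⟩ : ∃ Y : Subgroup G, Y = X ⊓ centralizer ({t} : Set G) ⊓ centralizer ({x} : Set G) :=
    ⟨_, rfl⟩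
  have hYmem : ∀ {y : G}, y ∈ Y ↔ y ∈ X ∧ y * t = t * y ∧ y * x = x * y := by
    intro y
    rw [hY, mem_inf, mem_inf, mem_centralizer_singleton_iff, mem_centralizer_singleton_iff, and_assoc]
  have hYX : Y ≤ X := fun y hy => (hYmem.mp hy).1
  let ρ : ↥Y →* (↥X ⧸ oddCore ↥X) := (QuotientGroup.mk' (oddCore ↥X)).comp (inclusion hYX)
  have hρ : ∀ (y : G) (hy : y ∈ Y), ρ ⟨y, hy⟩ = QuotientGroup.mk ⟨y, hYX hy⟩ := fun _ _ => rfl
  have hρ1 : ∀ (y : G) (hy : y ∈ Y), ρ ⟨y, hy⟩ = 1 ↔ y ∈ core X := fun y hy => by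
    rw [hρ, mk_eq_one_iff]
  have hrange : S ≤ ρ.range := by
    intro s hs
    obtain ⟨⟨m, hm⟩, rfl⟩ := QuotientGroup.mk_surjective s
    have h1 := mem_centralizer_singleton_iff.mp (hSt hs)
    have h2 : m⁻¹ * (t * m * t⁻¹) ∈ core X := (mk_comm_iff hm ht).mp h1
    have h3 := (fixes_iff_conj.mp hf).2 m hm
    obtain ⟨o, ho, h4, h5⟩ := exists_comm_two (odd_card_core X) hx (m := 1)
      (by rw [pow_one, pow_two, htt])
      (normalizer_le_normalizer_core X hf.1) (le_normalizer_core X ht) hxt h3 h2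
    have hmo : m * o ∈ Y := hYmem.mpr ⟨X.mul_mem hm (core_le X ho), h5.symm, h4.symm⟩
    refine ⟨⟨m * o, hmo⟩, ?_⟩
    rw [hρ, mk_eq_mk_iff', mul_inv_rev, inv_mul_cancel_right]
    exact inv_mem ho
  obtain ⟨P, hP, hPS⟩ := exists_lift_two ρ S hS hrange
  -- adjoin `t` and `u`
  have htY : t ∈ Y := hYmem.mpr ⟨ht, rfl, hxt.symm⟩
  have huY : u ∈ Y := hYmem.mpr ⟨A.mem, htu.symm, hxu.symm⟩
  have p1 : IsPGroup 2 ↥(P ⊔ zpowers (⟨t, htY⟩ : ↥Y)) := by
    refine isPGroup_sup hP (Subtype.ext ?_) fun y hy => ?_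
    · show t ^ 4 = 1
      rw [show (4 : ℕ) = 2 * 2 from rfl, pow_mul, pow_two t, htt, one_pow]
    · have e : (⟨t, htY⟩ : ↥Y) * y * (⟨t, htY⟩ : ↥Y)⁻¹ = y := by
        apply Subtype.ext
        show t * (y : G) * t⁻¹ = y
        rw [← (hYmem.mp y.2).2.1, mul_inv_cancel_right]
      rwa [e]
  have p2 : IsPGroup 2 ↥(P ⊔ zpowers (⟨t, htY⟩ : ↥Y) ⊔ zpowers (⟨u, huY⟩ : ↥Y)) := by
    refine isPGroup_sup p1 (Subtype.ext ?_) fun y hy => ?_
    · show u ^ 4 = 1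
      rw [show (4 : ℕ) = 2 * 2 from rfl, pow_mul, pow_two u, A.sq, one_pow]
    · have e : (⟨u, huY⟩ : ↥Y) * y * (⟨u, huY⟩ : ↥Y)⁻¹ = y := by
        apply Subtype.ext
        show u * (y : G) * u⁻¹ = y
        rw [← A.comm (hYX y.2), mul_inv_cancel_right]
      rwa [e]
  obtain ⟨Q, hQ⟩ : ∃ Q, Q = P ⊔ zpowers (⟨t, htY⟩ : ↥Y) ⊔ zpowers (⟨u, huY⟩ : ↥Y) := ⟨_, rfl⟩
  rw [← hQ] at p2
  have hPQ : P ≤ Q := hQ ▸ le_sup_left.trans le_sup_left
  have htQ : (⟨t, htY⟩ : ↥Y) ∈ Q := hQ ▸ (le_sup_right.trans le_sup_left : zpowers _ ≤ _) (mem_zpowers _)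
  have huQ : (⟨u, huY⟩ : ↥Y) ∈ Q := hQ ▸ (le_sup_right : zpowers _ ≤ _) (mem_zpowers _)
  have hinj : Function.Injective (ρ.comp Q.subtype) := by
    rw [injective_iff_map_eq_one]
    rintro ⟨⟨y, hy⟩, hyQ⟩ h1
    have h2 : y ∈ core X := (hρ1 y hy).mp h1
    obtain ⟨j, hj⟩ := p2 ⟨⟨y, hy⟩, hyQ⟩
    have h3 : y ^ 2 ^ j = 1 := congrArg (fun z : ↥Q => ((z : ↥Y) : G)) hj
    have h4 := eq_one_of_mem_core h2 h3
    exact Subtype.ext (Subtype.ext h4)
  have key : ∀ s ∈ S, ∃ q : ↥Q, (ρ.comp Q.subtype) q = s := by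
    intro s hs
    rw [← hPS] at hs
    obtain ⟨p, hp, rfl⟩ := hs
    exact ⟨⟨p, hPQ hp⟩, rfl⟩
  obtain ⟨a', ha'⟩ := key a ha
  obtain ⟨b', hb'⟩ := key b hb
  obtain ⟨c', hc'⟩ := key c hc
  obtain ⟨d', hd'⟩ := key d hd
  have hzu : A.cov.z = (ρ.comp Q.subtype) ⟨⟨u, huY⟩, huQ⟩ := A.cov_z
  have htt' : (QuotientGroup.mk ⟨t, ht⟩ : ↥X ⧸ oddCore ↥X) =
    (ρ.comp Q.subtype) ⟨⟨t, htY⟩, htQ⟩ := rfl
  rw [hzu, htt', ← ha', ← hb', ← hc', ← hd'] at hR
  have hR1 := (fiveRel_of_injective _ hinj hR).map (Y.subtype.comp Q.subtype)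
  have hm : ∀ q : ↥Q, (((q : ↥Y) : G) ∈ X) ∧ x * ((q : ↥Y) : G) = ((q : ↥Y) : G) * x := fun q =>
    ⟨hYX q.1.2, (hYmem.mp q.1.2).2.2.symm⟩
  exact ⟨a', b', c', d', hR1, ⟨(hm a').1, (hm b').1, (hm c').1, (hm d').1⟩,
    (hm a').2, (hm b').2, (hm c').2, (hm d').2⟩

end Cfsg.Agent.Intrinsic.WOne
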