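import Cfsg.Agent.Intrinsic.WOne.Two
import Cfsg.Agent.StandardComponent.AltQuat

/-!
# S1738, (5.5), (5.6)

(5.5): for a pair of type (0), `s ∈ D` fixing `L u`, `s ≠ u`: `s` is big for `u`, `u` is big for `s`, `u s ∉ D`.
(5.6): `D ∩ C(u)` consists of the involutions of `L u` and the members of `D` fixing `L u`.
-/

set_option autoImplicit false

open Cfsg Subgroup Equiv
open Cfsg.Agent.SignalizersComponents Cfsg.Agent.Lib
open Cfsg.Agent.SignalizersComponents.IntrinsicBasic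
open Cfsg.Agent.Intrinsic.Basic Cfsg.Agent.Intrinsic.Cen Cfsg.Agent.Intrinsic.Quot

namespace Cfsg.Agent.Intrinsic.WOne

section general

variable {G : Type*} [Group G]

theorem fixes_mul {a b : G} {K : Subgroup G} (ha : Fixes a K) (hb : Fixes b K) : Fixes (a * b) K := by
  rw [fixes_iff_conj] at ha hb ⊢
  refine ⟨mul_mem ha.1 hb.1, fun y hy => ?_⟩
  have h1 := hb.2 y hy
  have h2 := ha.2 y hy
  have h3 := conj_mem_core ha.1 h1
  have h4 : y⁻¹ * (a * b * y * (a * b)⁻¹) = y⁻¹ * (a * y * a⁻¹) * (a * (y⁻¹ * (b * y * b⁻¹)) * a⁻¹) := by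
    group
  rw [h4]
  exact mul_mem h2 h3

theorem fixes_one (K : Subgroup G) : Fixes 1 K := by
  rw [fixes_iff_conj]
  refine ⟨one_mem _, fun y _ => ?_⟩
  rw [one_mul, inv_one, mul_one, inv_mul_cancel]
  exact one_mem _

theorem fixes_inv {a : G} {K : Subgroup G} (ha : Fixes a K) : Fixes a⁻¹ K := by
  rw [fixes_iff_conj] at ha ⊢
  refine ⟨inv_mem ha.1, fun y hy => ?_⟩
  have h0 : a⁻¹ * y * a⁻¹⁻¹ ∈ K := (mem_normalizer_iff.mp (inv_mem ha.1) y).mp hy
  have h1 := ha.2 _ h0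
  have h3 : (a⁻¹ * y * a⁻¹⁻¹)⁻¹ * (a * (a⁻¹ * y * a⁻¹⁻¹) * a⁻¹) = (y⁻¹ * (a⁻¹ * y * a⁻¹⁻¹))⁻¹ := by
    group
  rw [h3, inv_mem_iff] at h1
  exact h1

/-- elements centralizing `K` fix `K` -/
theorem fixes_of_le_centralizer {a : G} {K : Subgroup G} (h : K ≤ centralizer ({a} : Set G)) :
    Fixes a K := by
  have hc : ∀ y ∈ K, a * y * a⁻¹ = y := fun y hy => by
    rw [← mem_centralizer_singleton_iff.mp (h hy), mul_inv_cancel_right]
  rw [fixes_iff_conj]
  refine ⟨?_, fun y hy => ?_⟩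
  · rw [mem_normalizer_iff]
    intro y
    constructor
    · intro hy; rwa [hc y hy]
    · intro hy
      have h1 : a * (a * y * a⁻¹) * a⁻¹ = a * y * a⁻¹ := hc _ hy
      have h2 : a * y * a⁻¹ = y := mul_left_cancel (mul_right_cancel h1)
      rwa [h2] at hy
  · rw [hc y hy, inv_mul_cancel]
    exact one_mem _

end general

variable {G : Type*} [Group G] [Finite G] {n : ℕ} {D : Set G} {L : G → Subgroup G} {u v t x s : G}

omit [Finite G] in
theorem mul_sq {a b : G} (ha : a * a = 1) (hb : b * b = 1) (hab : a * b = b * a) :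
    (a * b) * (a * b) = 1 := by
  rw [mul_assoc, ← mul_assoc b a b, ← hab, mul_assoc a b b, hb, mul_one, ha]

omit [Finite G] in
theorem mul_ne_one {a b : G} (hb : b * b = 1) (hab : a ≠ b) : a * b ≠ 1 := fun h =>
  hab (by rw [eq_inv_of_mul_eq_one_left h, inv_eq_of_mul_eq_one_left hb])

section

variable (h : W1 n D L) (hu : u ∈ D) (hxx : x * x = 1) (hx1 : x ≠ 1) (hxu : x ≠ u)
  (hx : x * u = u * x) (hf : Fixes x (L u))

include h hu hxx hx1 hxu hx hf

/-- not both `x` and `x u` are big -/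
theorem W1.not_both (hb : IsBig n u (L u) x) (hb' : IsBig n u (L u) (x * u)) : False := by
  obtain ⟨t, ht, htt, ht1, htu, hxt⟩ := h.exists_inv_comm_one hu (m := 1)
    (by rw [pow_one, pow_two, hxx]) hx hf
  have h1 := h.fixes_of_isBig hu hxx hx1 hx hf ht htt ht1 hxt hb
  have hut := (h.comm hu ht).symm
  have h2 := h.fixes_of_isBig hu (mul_sq hxx (h.sq hu) hx) (mul_ne_one (h.sq hu) hxu)
    (comm_mul hx rfl) (fixes_mul hf (h.fixes_self hu)) ht htt ht1
    (by rw [mul_assoc, hut, ← mul_assoc, hxt, mul_assoc]) hb'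
  have h3 := fixes_mul h1 h2
  rw [← mul_assoc, hxx, one_mul] at h3
  exact h.not_fixes (h.inv_mem hu ht htt ht1) (h.mem_of_mem hu ht htt ht1) (h.sq hu)
    (h.ne_one hu) (Ne.symm htu) h3

/-- `x` or `x u` is big -/
theorem W1.big_or : IsBig n u (L u) x ∨ IsBig n u (L u) (x * u) := by
  obtain ⟨t, ht, htt, ht1, htu, hxt⟩ := h.exists_inv_comm_one hu (m := 1)
    (by rw [pow_one, pow_two, hxx]) hx hf
  have hut := (h.comm hu ht).symm
  rcases h.fixes_or hu hxx hx1 hxu hx hf ht htt ht1 htu hxt with h1 | h1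
  · exact Or.inl ((h.isBig_iff hu hxx hx1 hx hf ht htt ht1 htu hxt).mpr h1)
  · right
    exact (h.isBig_iff hu (mul_sq hxx (h.sq hu) hx) (mul_ne_one (h.sq hu) hxu)
      (comm_mul hx rfl)
      (fixes_mul hf (h.fixes_self hu)) ht htt ht1 htu
      (by rw [mul_assoc, hut, ← mul_assoc, hxt, mul_assoc])).mpr h1

end

/-- `u s` is not big for `s` in a pair of type (0) -/
theorem W1.not_big_mul (h : W1 n D L) (hu : u ∈ D) (hs : s ∈ D) (hsu : s ≠ u)
    (hus : s * u = u * s) (hf : Fixes s (L u)) : ¬ IsBig n s (L s) (u * s) := by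
  intro hb
  have hfu : Fixes u (L s) := h.symm hu hs hus.symm hf
  obtain ⟨t, ht, htt, ht1, hts, hut⟩ := h.exists_inv_comm_one hs (m := 1)
    (by rw [pow_one, pow_two, h.sq hu]) hus.symm hfu
  have htD := h.inv_mem hs ht htt ht1
  have hst := (h.comm hs ht).symm
  have h1 := h.fixes_of_isBig hs (mul_sq (h.sq hu) (h.sq hs) hus.symm)
    (mul_ne_one (h.sq hs) (Ne.symm hsu)) (comm_mul hus.symm rfl)
    (fixes_mul hfu (h.fixes_self hs)) ht htt ht1
    (by rw [mul_assoc, hst, ← mul_assoc, hut, mul_assoc]) hb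
  -- `t` lies in the pump-up of `L s` in `C(u)`, which is not `L u`
  have hp := pump_comp (h.pair hs) (h.sq hu) hus.symm hfu
  have htp := mem_pump_of_mem (h.pair hs) (h.sq hu) hus.symm hfu ht hut.symm (k := 1)
    (by rw [pow_one, pow_two, htt])
  have hsp := mem_pump (h.pair hs) (h.sq hu) hus.symm hfu
  have hne : L u ≠ pump u (L s) := by
    intro he
    rw [← he] at hsp
    exact hsu (h.eq_of_fixes hu hsp (h.sq hs) (h.ne_one hs) hf)
  have h2 := (h.comp hu).fixes_of_mem hp hne htp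
  have h3 := h.symm hu htD hut h2
  have h4 := fixes_mul h3 h1
  rw [← mul_assoc, h.sq hu, one_mul] at h4
  exact h.not_fixes htD (h.mem_of_mem hs ht htt ht1) (h.sq hs) (h.ne_one hs) (Ne.symm hts) h4

/-- **(5.5)** -/
theorem W1.isBig_of_zero (h : W1 n D L) (hu : u ∈ D) (hs : s ∈ D) (hsu : s ≠ u)
    (hus : s * u = u * s) (hf : Fixes s (L u)) : IsBig n u (L u) s := by
  have hfu : Fixes u (L s) := h.symm hu hs hus.symm hf
  exact (h.big_or hu (h.sq hs) (h.ne_one hs) hsu hus hf).resolve_right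
    (h.not_big_mul hs hu (Ne.symm hsu) hus.symm hfu)

/-- **(5.5)** -/
theorem W1.mul_notMem (h : W1 n D L) (hu : u ∈ D) (hs : s ∈ D) (hsu : s ≠ u)
    (hus : s * u = u * s) (hf : Fixes s (L u)) : s * u ∉ D := by
  intro hsuD
  have h1 := h.isBig_of_zero hu hs hsu hus hf
  have h2 := h.isBig_of_zero hu hsuD (fun he => h.ne_one hs (mul_eq_right.mp he))
    (comm_mul hus rfl) (fixes_mul hf (h.fixes_self hu))
  exact h.not_both hu (h.sq hs) (h.ne_one hs) hsu hus hf h1 h2

/-- the contradiction in (5.6) -/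
theorem W1.split_aux (h : W1 n D L) (hu : u ∈ D) {l k : G} (hl : l ∈ L u) (hll : l * l = 1)
    (hl1 : l ≠ 1) (hlu : l ≠ u) (hkk : k * k = 1) (hk1 : k ≠ 1) (hku : k ≠ u)
    (hk : k * u = u * k) (hkl : k * l = l * k) (hf : Fixes k (L u)) (hb : IsBig n u (L u) k)
    (hD : k * l ∈ D) : False := by
  have hlD := h.inv_mem hu hl hll hl1
  have h1 := h.fixes_of_isBig hu hkk hk1 hk hf hl hll hl1 hkl hb
  have h2 := (h.isBig_of_fixes hu hkk hk hf hl hll hl1 hlu hkl hk1 h1).2
  have hkne : k ≠ l := by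
    rintro rfl
    exact h.not_fixes hu hl hll hl1 hlu hf
  have h3 := h.isBig_of_zero hlD hD (fun he => hk1 (mul_eq_right.mp he))
    (comm_mul hkl rfl) (fixes_mul h1 (h.fixes_self hlD))
  exact h.not_both hlD hkk hk1 hkne hkl h1 h2 h3

/-- **(5.6)** -/
theorem W1.split (h : W1 n D L) (hu : u ∈ D) (hs : s ∈ D) (hus : s * u = u * s) :
    s ∈ L u ∨ Fixes s (L u) := by
  by_contra hcon
  rw [not_or] at hcon
  obtain ⟨hsL, hnf⟩ := hcon
  have hnf' : ¬ Fixes u (L s) := fun hf => hnf (h.symm hs hu hus hf)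
  obtain ⟨a, ha, b, hb, hau, hbu, haa, hbb, hba⟩ := h.quat hs hu hus hnf'
  obtain ⟨A⟩ := h.nonempty_act hu
  have h8 : (A.f s).support.card = 8 := by
    refine Cfsg.Agent.StandardComponent.AltQuat.card_support
      (by rw [Fintype.card_fin]; have := h.le'; omega) (α := A.f a) (β := A.f b) (a := A.f s) ?_ ?_ ?_ ?_ ?_
    · rw [← A.map_mul hau hau, haa]
    · rw [← A.map_mul hbu hbu, hbb]
    · rw [← A.map_mul hbu hau, hba, A.map_mul (comm_mul hau hbu) hus, A.map_mul hau hbu]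
    · rw [← A.map_mul hus hus, h.sq hs, A.f_one]
    · rw [Ne, A.ker hus]; exact hnf
  obtain ⟨l, hl, hll, hsl, hfl⟩ := A.exists_involution hus (m := 1)
    (by rw [pow_one, pow_two, h.sq hs]) (A.f_sq hus (h.sq hs)) h8
  obtain ⟨hl1, hlu⟩ := A.ne_of_card (hfl ▸ h8)
  have hlu' := h.comm hu hl
  obtain ⟨k, hk⟩ : ∃ k, k = l * s := ⟨_, rfl⟩
  have hkk : k * k = 1 := by rw [hk]; exact mul_sq hll (h.sq hs) hsl.symm
  have hsk : s = k * l := by rw [hk, mul_assoc, hsl, ← mul_assoc, hll, one_mul]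
  have hku : k * u = u * k := by rw [hk]; exact comm_mul hlu' hus
  have hkl : k * l = l * k := by rw [← hsk, hk, ← mul_assoc, hll, one_mul]
  have hfk : Fixes k (L u) := by
    have := A.fixes_of_eq hus hl hfl.symm
    rwa [inv_eq_of_mul_eq_one_left hll, ← hk] at this
  have hk1 : k ≠ 1 := by
    rintro rfl
    rw [one_mul] at hsk
    exact hsL (hsk ▸ hl)
  have hkne : k ≠ u := by
    rintro rfl
    exact hsL (hsk ▸ (L k).mul_mem (h.mem hu) hl)
  rcases h.big_or hu hkk hk1 hkne hku hfk with hbig | hbig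
  · exact h.split_aux hu hl hll hl1 hlu hkk hk1 hkne hku hkl hfk hbig (hsk ▸ hs)
  · refine h.split_aux hu (l := l * u) (k := k * u) ((L u).mul_mem hl (h.mem hu))
      (mul_sq hll (h.sq hu) hlu') (mul_ne_one (h.sq hu) hlu) (fun he => hl1 (mul_eq_right.mp he))
      (mul_sq hkk (h.sq hu) hku) (mul_ne_one (h.sq hu) hkne) (fun he => hk1 (mul_eq_right.mp he))
      (comm_mul hku rfl) ?_ (fixes_mul hfk (h.fixes_self hu)) hbig ?_
    · rw [show k * u * (l * u) = k * (u * l) * u by group, ← hlu',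
        show l * u * (k * u) = l * (u * k) * u by group, ← hku,
        show k * (l * u) * u = (k * l) * (u * u) by group,
        show l * (k * u) * u = (l * k) * (u * u) by group, hkl]
    · rw [show k * u * (l * u) = k * (u * l) * u by group, ← hlu',
        show k * (l * u) * u = (k * l) * (u * u) by group, h.sq hu, mul_one, ← hsk]
      exact hs

end Cfsg.Agent.Intrinsic.WOne
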