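import Cfsg.Agent.Intrinsic.WOne.Five

/-!
# S1738, (5.4)

`W1.fixes_or_two`: a 2-element `y` of `C(u)` fixing `L u` and commuting with the involution `t ≠ u` of `L u`: `y` or
`y u` fixes `L t`.
`W1.fixes_indep`: whether `y` fixes `L t` does not depend on `t`.
-/

set_option autoImplicit false

open Cfsg Subgroup Equiv
open Cfsg.Agent.SignalizersComponents Cfsg.Agent.Lib
open Cfsg.Agent.SignalizersComponents.IntrinsicBasic
open Cfsg.Agent.SporRec.TwoAn
open Cfsg.Agent.Intrinsic.Basic Cfsg.Agent.Intrinsic.Cen Cfsg.Agent.Intrinsic.Quot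

namespace Cfsg.Agent.Intrinsic.WOne

section perm

variable {α : Type*} [Fintype α] [DecidableEq α]

theorem eq_one_or_swap {σ : Perm α} {k : ℕ} (hσ : σ ^ 2 ^ k = 1) (h3 : σ.support.card ≤ 3) :
    σ = 1 ∨ ∃ p q, p ≠ q ∧ σ = swap p q := by
  have h1 : σ.support.card ≠ 1 := Perm.card_support_ne_one σ
  have h2 : σ.support.card ≠ 3 := by
    intro h
    have h4 := (_root_.card_support_eq_three_iff.mp h).orderOf
    have h5 := orderOf_dvd_of_pow_eq_one hσ
    rw [h4] at h5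
    have h6 : (3 : ℕ).Coprime (2 ^ k) := Nat.Coprime.pow_right k (by decide)
    have h7 := Nat.eq_one_of_dvd_coprimes h6 dvd_rfl h5
    exact absurd h7 (by norm_num)
  rcases (show σ.support.card = 0 ∨ σ.support.card = 2 by omega) with h | h
  · left
    rwa [Finset.card_eq_zero, Perm.support_eq_empty_iff] at h
  · right
    exact Perm.card_support_eq_two.mp h

omit [Fintype α] in
/-- a transposition does not commute with a 3-cycle moving its points -/
theorem swap_not_comm {p q r : α} (hpq : p ≠ q) (hpr : p ≠ r) (hqr : q ≠ r) :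
    swap p q * (swap p q * swap q r) ≠ (swap p q * swap q r) * swap p q := by
  intro h
  have h1 := congrArg (fun σ : Perm α => σ r) h
  simp only [Perm.mul_apply, swap_apply_right, swap_apply_of_ne_of_ne hpr.symm hqr.symm,
    swap_apply_left] at h1
  exact hpq (by simpa using h1.symm)

end perm

/-- the involution in `⟨g⟩` -/
theorem exists_pow_involution {G : Type*} [Group G] {g : G} {k : ℕ} (hg : g ^ 2 ^ k = 1) (h1 : g ≠ 1) :
    ∃ j : ℕ, g ^ j ≠ 1 ∧ g ^ j * g ^ j = 1 := by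
  classical
  have h2 : ∃ k : ℕ, g ^ 2 ^ k = 1 := ⟨k, hg⟩
  obtain ⟨m, hm⟩ : ∃ m, Nat.find h2 = m + 1 := by
    refine Nat.exists_eq_succ_of_ne_zero fun h3 => ?_
    have h4 := Nat.find_spec h2
    rw [h3, pow_zero, pow_one] at h4
    exact h1 h4
  refine ⟨2 ^ m, Nat.find_min h2 (by omega), ?_⟩
  have h4 := Nat.find_spec h2
  rwa [hm, pow_succ, pow_mul, pow_two] at h4

variable {G : Type*} [Group G] [Finite G] {n : ℕ} {D : Set G} {L : G → Subgroup G}
  {u v t t' x s y d g : G}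

namespace Act

variable {X : Subgroup G} (A : Act n u X)

include A

omit [Finite G] A in
theorem comm_pow {a : G} (ha : a * u = u * a) (m : ℕ) : a ^ m * u = u * a ^ m :=
  ((show Commute a u from ha).pow_left m).eq

theorem f_pow {a : G} (ha : a * u = u * a) (m : ℕ) : A.f (a ^ m) = A.f a ^ m := by
  induction m with
  | zero => rw [pow_zero, pow_zero, A.f_one]
  | succ m ih => rw [pow_succ, pow_succ, A.map_mul (comm_pow ha m) ha, ih]

theorem fixes_pow {a : G} (ha : a * u = u * a) (hf : Fixes a X) (m : ℕ) : Fixes (a ^ m) X := by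
  rw [← A.ker (comm_pow ha m), A.f_pow ha, (A.ker ha).mpr hf, one_pow]

end Act

/-- elements of the core of a big pump-up commuting with the involution `s` of it fix `L s` -/
theorem W1.fixes_of_core_pump (h : W1 n D L) (hu : u ∈ D) (hdd : d * d = 1) (hd1 : d ≠ 1)
    (hd : d * u = u * d) (hf : Fixes d (L u)) (hb : IsBig n u (L u) d) (hs : s ∈ pump d (L u))
    (hss : s * s = 1) (hs1 : s ≠ 1) (hg : g ∈ core (pump d (L u))) (hgs : g * s = s * g) :
    Fixes g (L s) := by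
  obtain ⟨hsD, hds, hfs, hpe, -⟩ := h.of_mem_pump hu hdd hd1 hd hf hb hs hss hs1
  rw [← hpe] at hg
  have h1 := isComp_cen_inf (h.pair hsD) hdd hds hfs
  have h2 : core (pump d (L s)) ⊓ centralizer ({s} : Set G) ≤
      core (pump d (L s) ⊓ centralizer ({s} : Set G)) := by
    refine le_core (inf_le_inf_right _ (core_le _)) ?_
      (Odd.of_dvd_nat (odd_card_core (pump d (L s))) (card_dvd_of_le inf_le_left))
    intro a ha
    rw [mem_normalizer_iff_cj, cj_inf, mem_normalizer_iff_cj.mp (le_normalizer_core _ ha.1),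
      cj_eq_self_of_mem ha.2]
  have h3 := h1.fixes_of_core (h2 ⟨hg, mem_centralizer_singleton_iff.mpr hgs⟩)
  have h4 := (isComp_cen (h.comp hsD) (mem_centralizer_singleton_iff.mpr hds) hdd hfs).2
  exact (fixes_iff_of_sup h4 h3.1 (h.norm hsD hgs)).mp h3

/-- (5.4) when `y` acts trivially on the support of `u` -/
theorem W1.fixes_of_local_two (h : W1 n D L) (hu : u ∈ D) {k : ℕ} (hy2 : y ^ 2 ^ k = 1)
    (hy : y * u = u * y) (hf : Fixes y (L u)) (ht : t ∈ L u) (htt : t * t = 1)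
    (ht1 : t ≠ 1) (htu : t ≠ u) (hyt : y * t = t * y) (A : Act n t (L t))
    (hl : ∀ i ∈ (A.f u).support, A.f y i = i) : Fixes y (L t) := by
  have htD := h.inv_mem hu ht htt ht1
  have huLt := h.mem_of_mem hu ht htt ht1
  have hut := (h.comm hu ht).symm
  have hn := h.le'
  by_cases hy1 : y = 1
  · rw [hy1]; exact fixes_one _
  by_cases hyy : y * y = 1
  · exact h.fixes_of_local hu hyy hy1 hy hf ht htt ht1 htu hyt A hl
  have h8 : (A.f u).support.card = 8 :=
    h.card_support A huLt (h.sq hu) (h.ne_one hu) (Ne.symm htu)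
  have hdisj : Disjoint (A.f y).support (A.f u).support := by
    rw [Finset.disjoint_left]
    intro i hi hi'
    exact (Perm.mem_support.mp hi) (hl i hi')
  have h1 := Finset.card_le_univ ((A.f y).support ∪ (A.f u).support)
  rw [Finset.card_union_of_disjoint hdisj, h8, Fintype.card_fin] at h1
  rcases eq_one_or_swap (σ := A.f y) (k := k) (by rw [← A.f_pow hyt, hy2, A.f_one]) (by omega) with
    h2 | ⟨p, q, hpq, hσ⟩
  · exact (A.ker hyt).mp h2
  exfalso
  -- the involution `d` of `⟨y⟩`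
  obtain ⟨j, hj1, hj2⟩ := exists_pow_involution (g := y * y) (k := k)
    (by rw [← pow_two, ← pow_mul, mul_comm, pow_mul, hy2, one_pow]) hyy
  obtain ⟨d, hd⟩ : ∃ d, d = (y * y) ^ j := ⟨_, rfl⟩
  rw [← hd] at hj1 hj2
  obtain ⟨B⟩ := h.nonempty_act hu
  have hyyu := comm_mul hy hy
  have hyyt := comm_mul hyt hyt
  have hdu : d * u = u * d := hd ▸ Act.comm_pow hyyu j
  have hdt : d * t = t * d := hd ▸ Act.comm_pow hyyt j
  have hyd : y * d = d * y := by
    rw [hd]
    exact ((Commute.refl y).mul_right (Commute.refl y)).pow_right j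
  have hfd : Fixes d (L u) := hd ▸ B.fixes_pow hyyu (fixes_mul hf hf) j
  have hfdt : Fixes d (L t) := by
    rw [← A.ker hdt, hd, A.f_pow hyyt, A.map_mul hyt hyt, hσ, swap_mul_self, one_pow]
  obtain ⟨hb, -⟩ := h.isBig_of_fixes hu hj2 hdu hfd ht htt ht1 htu hdt hj1 hfdt
  have hpe := h.pump_eq_pump hu hj2 hdu hfd ht htt ht1 htu hdt hfdt
  -- the third fixed point
  have h2card : (A.f y).support.card = 2 := by rw [hσ, Perm.card_support_swap hpq]
  have hn11 : n = 11 := by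
    rcases hb.eight_or with h3 | h3
    · omega
    · exact h3
  have h4 : ((A.f y).support ∪ (A.f u).support).card < (Finset.univ : Finset (Fin n)).card := by
    rw [Finset.card_union_of_disjoint hdisj, h8, h2card, Finset.card_univ, Fintype.card_fin]
    omega
  obtain ⟨r, -, hr⟩ := Finset.exists_mem_notMem_of_card_lt_card h4
  rw [Finset.mem_union, not_or] at hr
  obtain ⟨hr1, hr2⟩ := hr
  have hp : p ∈ (A.f y).support := by
    rw [hσ, Perm.mem_support, swap_apply_left]; exact hpq.symm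
  have hq : q ∈ (A.f y).support := by
    rw [hσ, Perm.mem_support, swap_apply_right]; exact hpq
  have hpr : p ≠ r := fun he => hr1 (he ▸ hp)
  have hqr : q ≠ r := fun he => hr1 (he ▸ hq)
  have hpu : p ∉ (A.f u).support := Finset.disjoint_left.mp hdisj hp
  have hqu : q ∉ (A.f u).support := Finset.disjoint_left.mp hdisj hq
  obtain ⟨ρ, hρ⟩ : ∃ ρ : Perm (Fin n), ρ = Equiv.swap p q * Equiv.swap q r := ⟨_, rfl⟩
  have hρA : ρ ∈ alternatingGroup (Fin n) := by
    rw [hρ]; exact Cover.swap_mul_swap_mem p q q r hpq hqr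
  obtain ⟨c₀, hc₀, hfc₀⟩ := A.exists_cen hdt hj2 hfdt hρA
  have hc₀L := cen_le _ _ hc₀
  have hdis : (A.f c₀).Disjoint (A.f u) := by
    rw [hfc₀]
    intro i
    by_cases hi : i ∈ (A.f u).support
    · left
      have e1 : i ≠ p := fun he => hpu (he ▸ hi)
      have e2 : i ≠ q := fun he => hqu (he ▸ hi)
      have e3 : i ≠ r := fun he => hr2 (he ▸ hi)
      rw [hρ, Perm.mul_apply, swap_apply_of_ne_of_ne e2 e3, swap_apply_of_ne_of_ne e1 e2]
    · right; rwa [Perm.notMem_support] at hi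
  have hucen : u ∈ cen (L t) d := mem_cen_of_sq huLt hdu.symm (h.sq hu)
  have hcore := core_cen (h.comp htD) (mem_centralizer_singleton_iff.mpr hdt) hj2 hfdt
  have h5 : c₀⁻¹ * (u * c₀ * u⁻¹) ∈ core (cen (L t) d) := by
    rw [hcore]
    exact ⟨mul_mem (Subgroup.inv_mem _ hc₀) (mul_mem (mul_mem hucen hc₀) (Subgroup.inv_mem _ hucen)),
      A.comm_of_disjoint hc₀L huLt hdis⟩
  obtain ⟨o, ho, h6⟩ := Lifting.exists_commute (odd_card_core (cen (L t) d)) (v := u) (n := 1)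
    (by rw [pow_one, pow_two, h.sq hu]) (le_normalizer_core _ hucen) h5
  obtain ⟨c, hc⟩ : ∃ c, c = c₀ * o := ⟨_, rfl⟩
  rw [← hc] at h6
  have hccen : c ∈ cen (L t) d := hc ▸ mul_mem hc₀ (core_le _ ho)
  have hfc : A.f c = ρ := by
    rw [hc, A.f_mul_core (A.comm hc₀L) (core_le_of_sup
      (isComp_cen (h.comp htD) (mem_centralizer_singleton_iff.mpr hdt) hj2 hfdt).2 ho), hfc₀]
  have hct := h.comm htD (cen_le _ _ hccen)
  have hcM : c ∈ pump d (L u) := by
    rw [hpe]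
    exact cen_le_pump (h.pair htD) hj2 hdt hfdt hccen
  -- `y` commutes with `c` modulo the core of the pump-up
  have hJM := cen_le_pump (h.pair hu) hj2 hdu hfd
  obtain ⟨e, ⟨he, -⟩, hec⟩ := Big.cent hb hcM h6.symm
  have hyN := mem_normalizer_pump (h.pair hu) hj2 hdu hfd (h.norm hu hy) hyd
  have hyJ : Fixes y (cen (L u) d) :=
    (fixes_iff_of_sup (isComp_cen (h.comp hu) (mem_centralizer_singleton_iff.mpr hdu) hj2 hfd).2
      (mem_normalizer_cen (h.norm hu hy) hyd) (h.norm hu hy)).mpr hf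
  have h7 : c⁻¹ * (y * c * y⁻¹) ∈ core (pump d (L u)) := by
    have h8 := Big.core_le hb hJM ((fixes_iff_conj.mp hyJ).2 e he)
    have h9 := conj_mem_core hyN hec
    have h10 : c⁻¹ * (y * c * y⁻¹) = (e⁻¹ * c)⁻¹ * (e⁻¹ * (y * e * y⁻¹)) * (y * (e⁻¹ * c) * y⁻¹) := by
      group
    rw [h10]
    exact mul_mem (mul_mem (Subgroup.inv_mem _ hec) h8) h9
  have htM := mem_pump_of_mem (h.pair hu) hj2 hdu hfd ht hdt.symm (k := 1)
    (by rw [pow_one, pow_two, htt])
  have hgt : c⁻¹ * (y * c * y⁻¹) * t = t * (c⁻¹ * (y * c * y⁻¹)) :=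
    comm_mul (comm_inv hct) (comm_mul (comm_mul hyt hct) (comm_inv hyt))
  have h8 := h.fixes_of_core_pump hu hj2 hj1 hdu hfd hb htM htt ht1 h7 hgt
  rw [← A.ker hgt, A.map_mul (comm_inv hct) (comm_mul (comm_mul hyt hct) (comm_inv hyt)),
    A.f_conj hyt hct, A.f_inv hct, hfc, inv_mul_eq_one, eq_mul_inv_iff_mul_eq, hσ, hρ] at h8
  exact swap_not_comm hpq hpr hqr h8.symm

/-- **(5.4)** -/
theorem W1.fixes_or_two (h : W1 n D L) (hu : u ∈ D) {k : ℕ} (hy2 : y ^ 2 ^ k = 1)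
    (hy : y * u = u * y) (hf : Fixes y (L u)) (ht : t ∈ L u) (htt : t * t = 1)
    (ht1 : t ≠ 1) (htu : t ≠ u) (hyt : y * t = t * y) : Fixes y (L t) ∨ Fixes (y * u) (L t) := by
  obtain ⟨A⟩ := h.nonempty_act (h.inv_mem hu ht htt ht1)
  have hut := (h.comm hu ht).symm
  rcases h.five hu ht htt ht1 htu hy2 hy hf hyt A with h1 | h1
  · exact Or.inl (h.fixes_of_local_two hu hy2 hy hf ht htt ht1 htu hyt A h1)
  · right
    refine h.fixes_of_local_two hu (k := k + 1) ?_ (comm_mul hy rfl)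
      (fixes_mul hf (h.fixes_self hu)) ht htt ht1 htu (comm_mul hyt hut) A ?_
    · have hc : Commute y u := hy
      rw [hc.mul_pow, pow_succ, pow_mul, hy2, one_pow, one_mul, mul_comm, pow_mul, pow_two,
        h.sq hu, one_pow]
    · intro i hi
      rw [A.map_mul hyt hut, Perm.mul_apply, h1 _ (Perm.apply_mem_support.mpr hi), ← Perm.mul_apply,
        A.f_sq hut (h.sq hu), Perm.one_apply]

/-- not both `y` and `y u` fix `L t` -/
theorem W1.not_both_fix (h : W1 n D L) (hu : u ∈ D) (ht : t ∈ L u) (htt : t * t = 1)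
    (ht1 : t ≠ 1) (htu : t ≠ u) (h1 : Fixes y (L t)) (h2 : Fixes (y * u) (L t)) : False := by
  have h3 := fixes_mul (fixes_inv h1) h2
  rw [inv_mul_cancel_left] at h3
  exact h.not_fixes (h.inv_mem hu ht htt ht1) (h.mem_of_mem hu ht htt ht1) (h.sq hu)
    (h.ne_one hu) (Ne.symm htu) h3

/-- **(5.4)** independence of `t` -/
theorem W1.fixes_indep (h : W1 n D L) (hu : u ∈ D) {k : ℕ} (hy2 : y ^ 2 ^ k = 1)
    (hy : y * u = u * y) (hf : Fixes y (L u)) (ht : t ∈ L u) (htt : t * t = 1)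
    (ht1 : t ≠ 1) (htu : t ≠ u) (hyt : y * t = t * y) (ht' : t' ∈ L u) (htt' : t' * t' = 1)
    (ht1' : t' ≠ 1) (htu' : t' ≠ u) (hyt' : y * t' = t' * y) (hft : Fixes y (L t)) :
    Fixes y (L t') := by
  by_cases hy1 : y = 1
  · rw [hy1]; exact fixes_one _
  have htD := h.inv_mem hu ht htt ht1
  obtain ⟨j, hj1, hj2⟩ := exists_pow_involution hy2 hy1
  obtain ⟨d, hd⟩ : ∃ d, d = y ^ j := ⟨_, rfl⟩
  rw [← hd] at hj1 hj2
  obtain ⟨A⟩ := h.nonempty_act htD
  obtain ⟨B⟩ := h.nonempty_act hu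
  have hdu : d * u = u * d := hd ▸ Act.comm_pow hy j
  have hdt : d * t = t * d := hd ▸ Act.comm_pow hyt j
  have hdt' : d * t' = t' * d := hd ▸ Act.comm_pow hyt' j
  have hyd : y * d = d * y := by
    rw [hd]; exact (Commute.refl y).pow_right j
  have hfd : Fixes d (L u) := hd ▸ B.fixes_pow hy hf j
  have hfdt : Fixes d (L t) := hd ▸ A.fixes_pow hyt hft j
  obtain ⟨hb, -⟩ := h.isBig_of_fixes hu hj2 hdu hfd ht htt ht1 htu hdt hj1 hfdt
  -- `t` and `t'` are conjugate in `cen (L u) d`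
  have hsup := isComp_cen (h.comp hu) (mem_centralizer_singleton_iff.mpr hdu) hj2 hfd
  obtain ⟨g, hg, hgt⟩ := h.exists_conj hu ht ht' htt htt' ht1 ht1' htu htu'
  obtain ⟨e, he, hec⟩ := exists_mul_of_sup hsup.2 hg
  have htc : t ∈ cen (L u) d := mem_cen_of_sq ht hdt.symm htt
  have htc' : t' ∈ cen (L u) d := mem_cen_of_sq ht' hdt'.symm htt'
  have h1 : (e * t * e⁻¹)⁻¹ * t' ∈ core (cen (L u) d) := by
    rw [core_of_sup hsup.2]
    refine ⟨mul_mem (Subgroup.inv_mem _ (mul_mem (mul_mem he htc) (Subgroup.inv_mem _ he))) htc', ?_⟩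
    have h2 := conj_mem_core (x := t⁻¹) (Subgroup.inv_mem _ (le_normalizer ht)) hec
    have h3 := conj_mem_core (x := e) (le_normalizer (cen_le _ _ he))
      (mul_mem h2 (Subgroup.inv_mem _ hec))
    have h4 : (e * t * e⁻¹)⁻¹ * t' = e * (t⁻¹ * (e⁻¹ * g) * t⁻¹⁻¹ * (e⁻¹ * g)⁻¹) * e⁻¹ := by
      rw [← hgt]; group
    rw [h4]; exact h3
  have hett : e * t * e⁻¹ * (e * t * e⁻¹) = 1 := by
    rw [show e * t * e⁻¹ * (e * t * e⁻¹) = e * (t * t) * e⁻¹ by group, htt]; group
  obtain ⟨o, ho, h2⟩ := Lifting.exists_conj_eq (odd_card_core (cen (L u) d)) (v := e * t * e⁻¹)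
    (v' := t') (n := 1) (m := 1) (by rw [pow_one, pow_two, hett]) (by rw [pow_one, pow_two, htt'])
    (le_normalizer_core _ (mul_mem (mul_mem he htc) (Subgroup.inv_mem _ he))) h1
  obtain ⟨c, hc⟩ : ∃ c, c = o * e := ⟨_, rfl⟩
  have hcJ : c ∈ cen (L u) d := hc ▸ mul_mem (core_le _ ho) he
  have hct : c * t * c⁻¹ = t' := by rw [← h2, hc]; group
  -- `c y c⁻¹ = [c, y] y`
  have hyJ : Fixes y (cen (L u) d) :=
    (fixes_iff_of_sup hsup.2 (mem_normalizer_cen (h.norm hu hy) hyd) (h.norm hu hy)).mpr hf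
  have h3 : c * y * c⁻¹ * y⁻¹ ∈ core (cen (L u) d) := by
    have h4 := (fixes_iff_conj.mp hyJ).2 c⁻¹ (Subgroup.inv_mem _ hcJ)
    rw [inv_inv, show c * (y * c⁻¹ * y⁻¹) = c * y * c⁻¹ * y⁻¹ by group] at h4
    exact h4
  have h4 := Big.core_le hb (cen_le_pump (h.pair hu) hj2 hdu hfd) h3
  have hcyt : c * y * c⁻¹ * t' = t' * (c * y * c⁻¹) := by
    rw [← hct]
    calc c * y * c⁻¹ * (c * t * c⁻¹) = c * (y * t) * c⁻¹ := by group
      _ = c * (t * y) * c⁻¹ := by rw [hyt]
      _ = c * t * c⁻¹ * (c * y * c⁻¹) := by group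
  have htM := mem_pump_of_mem (h.pair hu) hj2 hdu hfd ht' hdt'.symm (k := 1)
    (by rw [pow_one, pow_two, htt'])
  have h5 := h.fixes_of_core_pump hu hj2 hj1 hdu hfd hb htM htt' ht1' h4
    (comm_mul hcyt (comm_inv hyt'))
  have h6 := hft.cj c
  rw [← h.L_conj htD, hct] at h6
  have h7 := fixes_mul (fixes_inv h5) h6
  rw [show (c * y * c⁻¹ * y⁻¹)⁻¹ * (c * y * c⁻¹) = y by group] at h7
  exact h7

end Cfsg.Agent.Intrinsic.WOne
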