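import Cfsg.Agent.Intrinsic.WOne.Base

/-!
# S1738, (5.3): big elements

`u ∈ D`, `x ≠ u` an involution of `C(u)` fixing `L u`, `t ≠ u` an involution of `L u` commuting with `x`: `x` fixes `L t`
iff `x` is big for `(u, L u)`.
-/

set_option autoImplicit false

open Cfsg Subgroup Equiv
open Cfsg.Agent.SignalizersComponents Cfsg.Agent.Lib
open Cfsg.Agent.SignalizersComponents.IntrinsicBasic
open Cfsg.Agent.Intrinsic.Basic Cfsg.Agent.Intrinsic.Cen Cfsg.Agent.Intrinsic.Quot

namespace Cfsg.Agent.Intrinsic.WOne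

variable {G : Type*} [Group G] [Finite G] {n : ℕ} {D : Set G} {L : G → Subgroup G} {u v t x s : G}

/-- a normal odd subgroup of a bigger group meets `J` in the core of `J` -/
theorem inf_core_le {J M : Subgroup G} (hJ : J ≤ normalizer (M : Set G)) : J ⊓ core M ≤ core J := by
  refine le_core inf_le_left ?_ (Odd.of_dvd_nat (odd_card_core M) (card_dvd_of_le inf_le_right))
  intro j hj
  rw [mem_normalizer_iff_cj, cj_inf, cj_eq_self_of_mem hj,
    mem_normalizer_iff_cj.mp (normalizer_le_normalizer_core M (hJ hj))]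

/-- an element normalizing `J ≤ M` and fixing `M` fixes `J` -/
theorem fixes_of_le {J M : Subgroup G} (hJM : J ≤ M) {a : G} (ha : a ∈ normalizer (J : Set G))
    (haf : Fixes a M) : Fixes a J := by
  rw [fixes_iff_conj] at haf ⊢
  refine ⟨ha, fun y hy => inf_core_le (hJM.trans le_normalizer) ⟨?_, haf.2 y (hJM hy)⟩⟩
  exact J.mul_mem (J.inv_mem hy) ((mem_normalizer_iff.mp ha y).mp hy)

/-- if `a` fixes `pump x X` it fixes `X` -/
theorem fixes_of_pump {X : Subgroup G} (h : IsPair n u X) (hxx : x * x = 1) (hx : x * u = u * x)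
    (hf : Fixes x X) {a : G} (ha : a ∈ normalizer (X : Set G)) (hax : a * x = x * a)
    (haf : Fixes a (pump x X)) : Fixes a X := by
  have hs := (isComp_cen h.comp (mem_centralizer_singleton_iff.mpr hx) hxx hf).2
  rw [← fixes_iff_of_sup hs (mem_normalizer_cen ha hax) ha]
  exact fixes_of_le (cen_le_pump h hxx hx hf) (mem_normalizer_cen ha hax) haf

section

variable (h : W1 n D L) (hu : u ∈ D) (hxx : x * x = 1) (hx : x * u = u * x)
  (hf : Fixes x (L u)) (ht : t ∈ L u) (htt : t * t = 1) (ht1 : t ≠ 1) (htu : t ≠ u)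
  (hxt : x * t = t * x)

include h hu hxx hx hf ht htt ht1 htu hxt

/-- the involutions of `L u` other than `u` commuting with `x` do not fix the pump-up -/
theorem W1.not_fixes_pump : ¬ Fixes t (pump x (L u)) := fun hft =>
  h.not_fixes hu ht htt ht1 htu
    (fixes_of_pump (h.pair hu) hxx hx hf (h.norm hu (h.comm hu ht)) hxt.symm hft)

/-- **(5.3), first half** -/
theorem W1.pump_eq_pump (hft : Fixes x (L t)) : pump x (L u) = pump x (L t) := by
  have htD := h.inv_mem hu ht htt ht1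
  by_contra hne
  have h1 := pump_comp (h.pair hu) hxx hx hf
  have h2 := pump_comp (h.pair htD) hxx hxt hft
  have h3 := mem_pump_of_mem (h.pair hu) hxx hx hf ht hxt.symm (k := 1) (by rw [pow_one, pow_two, htt])
  have h4 := h1.fixes_of_mem h2 hne (mem_pump (h.pair htD) hxx hxt hft)
  exact h.not_fixes_pump hu hxx hx hf ht htt ht1 htu hxt h4

theorem W1.isBig_of_fixes (hx1 : x ≠ 1) (hft : Fixes x (L t)) :
    IsBig n u (L u) x ∧ IsBig n t (L t) x := by
  have htD := h.inv_mem hu ht htt ht1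
  have huL := h.mem_of_mem hu ht htt ht1
  have he := h.pump_eq_pump hu hxx hx hf ht htt ht1 htu hxt hft
  constructor
  · refine (h.small_or_big hu hxx hx1 hx hf).resolve_left fun hs => ?_
    -- `u` fixes the pump-up, which is the pump-up of `L t`, in which `u` is not central
    have h1 := hs.fixes (h.pair hu) hx
    rw [he] at h1
    exact h.not_fixes_pump htD hxx hxt hft huL (h.sq hu) (h.ne_one hu) (Ne.symm htu) hx h1
  · refine (h.small_or_big htD hxx hx1 hxt hft).resolve_left fun hs => ?_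
    have h1 := hs.fixes (h.pair htD) hxt
    rw [← he] at h1
    exact h.not_fixes_pump hu hxx hx hf ht htt ht1 htu hxt h1

end

/-- **(5.3), second half**: if `x` is big then all involutions `s` of the pump-up are in `D`, `x` fixes
`L s`, the pump-ups are the same and `x` is big for `s`. -/
theorem W1.of_mem_pump (h : W1 n D L) (hu : u ∈ D) (hxx : x * x = 1) (hx1 : x ≠ 1) (hx : x * u = u * x)
    (hf : Fixes x (L u)) (hb : IsBig n u (L u) x) {s : G} (hs : s ∈ pump x (L u))
    (hss : s * s = 1) (hs1 : s ≠ 1) : s ∈ D ∧ x * s = s * x ∧ Fixes x (L s) ∧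
      pump x (L s) = pump x (L u) ∧ IsBig n s (L s) x := by
  obtain ⟨m, hm, rfl⟩ := Big.conj hb (h.sq hu) hs hss hs1
  have hM := pump_comp (h.pair hu) hxx hx hf
  have hmx : m * x = x * m := mem_centralizer_singleton_iff.mp (hM.le hm)
  have hxm : m * x * m⁻¹ = x := by rw [hmx, mul_inv_cancel_right]
  have h1 := hf.cj m
  rw [hxm, ← h.L_conj hu] at h1
  have h2 := cj_pump (h.pair hu) hxx hx hf m
  rw [hxm, ← h.L_conj hu, cj_eq_self_of_mem hm] at h2
  have h3 := (mem_centralizer_singleton_iff.mp (hM.le hs)).symm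
  refine ⟨h.conj hu m, h3, h1, h2, ?_⟩
  refine (h.small_or_big (h.conj hu m) hxx hx1 h3 h1).resolve_left fun hsm => ?_
  have h4 := (hsm.fixes (h.pair (h.conj hu m)) h3).cj m⁻¹
  rw [h2, cj_eq_self_of_mem (Subgroup.inv_mem _ hm), show m⁻¹ * (m * u * m⁻¹) * m⁻¹⁻¹ = u by group] at h4
  exact hb.not_fixes (h.pair hu) hxx hx hf h4

/-- **(5.3)** -/
theorem W1.fixes_of_isBig (h : W1 n D L) (hu : u ∈ D) (hxx : x * x = 1) (hx1 : x ≠ 1)
    (hx : x * u = u * x) (hf : Fixes x (L u)) (ht : t ∈ L u) (htt : t * t = 1) (ht1 : t ≠ 1)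
    (hxt : x * t = t * x) (hb : IsBig n u (L u) x) : Fixes x (L t) :=
  (h.of_mem_pump hu hxx hx1 hx hf hb
    (mem_pump_of_mem (h.pair hu) hxx hx hf ht hxt.symm (k := 1) (by rw [pow_one, pow_two, htt]))
    htt ht1).2.2.1

/-- **(5.3)** -/
theorem W1.isBig_iff (h : W1 n D L) (hu : u ∈ D) (hxx : x * x = 1) (hx1 : x ≠ 1)
    (hx : x * u = u * x) (hf : Fixes x (L u)) (ht : t ∈ L u) (htt : t * t = 1) (ht1 : t ≠ 1)
    (htu : t ≠ u) (hxt : x * t = t * x) : IsBig n u (L u) x ↔ Fixes x (L t) :=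
  ⟨h.fixes_of_isBig hu hxx hx1 hx hf ht htt ht1 hxt,
    fun hft => (h.isBig_of_fixes hu hxx hx hf ht htt ht1 htu hxt hx1 hft).1⟩

end Cfsg.Agent.Intrinsic.WOne
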