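import Cfsg.Agent.Intrinsic.WOne.Three
import Cfsg.Agent.Intrinsic.WOne.Exact
import Cfsg.Agent.Intrinsic.TypesB

/-!
# S1738, (5.2)

`u ∈ D`, `x ≠ u` an involution of `C(u)` fixing `L u`, `t ≠ u` an involution of `L u` commuting with `x`: `x` or `x u`
fixes `L t`.
-/

set_option autoImplicit false

open Cfsg Subgroup Equiv
open Cfsg.Agent.SignalizersComponents Cfsg.Agent.Lib
open Cfsg.Agent.SignalizersComponents.IntrinsicBasic
open Cfsg.Agent.SporRec.TwoAn
open Cfsg.Agent.Intrinsic.Basic Cfsg.Agent.Intrinsic.Cen Cfsg.Agent.Intrinsic.Quot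
open Cfsg.Agent.Intrinsic.AnFive

namespace Cfsg.Agent.Intrinsic.WOne

variable {G : Type*} [Group G] [Finite G] {n : ℕ} {D : Set G} {L : G → Subgroup G} {u v t x s y : G}

/-- (A5) in the world W1: a 2-element fixing `L u` and commuting with `t` acts on the support of `u` (on `L t`) as `1`
or as `u`. -/
theorem W1.five (h : W1 n D L) (hu : u ∈ D) (ht : t ∈ L u) (htt : t * t = 1) (ht1 : t ≠ 1)
    (htu : t ≠ u) {k : ℕ} (hx : x ^ 2 ^ k = 1) (hxu : x * u = u * x) (hf : Fixes x (L u))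
    (hxt : x * t = t * x) (A : Act n t (L t)) :
    (∀ i ∈ (A.f u).support, A.f x i = i) ∨ (∀ i ∈ (A.f u).support, A.f x i = A.f u i) := by
  obtain ⟨B⟩ := h.nonempty_act hu
  obtain ⟨a, b, c, d, hR, ⟨ha, hb, hc, hd⟩, hxa, hxb, hxc, hxd⟩ := exists_exact B ht htt
    (h.card_support B ht htt ht1 htu) hx hf hxt hxu
  have hut := (h.comm hu ht).symm
  have h8 : (A.f u).support.card = 8 :=
    h.card_support A (h.mem_of_mem hu ht htt ht1) (h.sq hu) (h.ne_one hu) (Ne.symm htu)
  have hmem : ∀ {g : G}, g * t = t * g → g ∈ centralizer ({t} : Set G) := fun hg =>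
    mem_centralizer_singleton_iff.mpr hg
  have hR' : FiveRel (⟨u, hmem hut⟩ : ↥(centralizer ({t} : Set G))) ⟨t, hmem rfl⟩
      ⟨a, hmem hR.tu⟩ ⟨b, hmem hR.tf⟩ ⟨c, hmem hR.tc⟩ ⟨d, hmem hR.td⟩ :=
    fiveRel_of_injective (centralizer ({t} : Set G)).subtype (subtype_injective _) hR
  have key : ∀ {g : G}, g * t = t * g → x * g = g * x → A.f x * A.f g = A.f g * A.f x := by
    intro g hg hxg
    rw [← A.map_mul hxt hg, hxg, A.map_mul hg hxt]
  exact hR'.central (Subtype.ext (h.sq hu)) A.hom A.f_u h8 (σ := A.f x)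
    (key hR.tu hxa) (key hR.tf hxb) (key hR.tc hxc) (key hR.td hxd)

/-- an involution of `C(u)` fixing `L u` does not act on `L t` as a transposition -/
theorem W1.not_transposition (h : W1 n D L) (hu : u ∈ D) (hyy : y * y = 1) (hy1 : y ≠ 1)
    (hy : y * u = u * y) (hf : Fixes y (L u)) (ht : t ∈ L u) (htt : t * t = 1)
    (ht1 : t ≠ 1) (htu : t ≠ u) (hyt : y * t = t * y) (A : Act n t (L t)) :
    (A.f y).support.card ≠ 2 := by
  intro h2
  have htD := h.inv_mem hu ht htt ht1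
  have hyN : y ∈ Bridge.NX t (L t) := Bridge.mem_NX.mpr ⟨h.norm htD hyt, hyt⟩
  have hn := h.le
  obtain ⟨J, hJ, htJ⟩ := TypesB.exists_J A.pair A.isAct hyN hyy (by rw [← A.f_S hyN, h2]; omega)
  have hJ2 : IsComp (centralizer ({y} : Set G) ⊓ centralizer ({t} : Set G)) J := by
    refine hJ.extend ?_ (TypeF.subnormal_inf (h.comp htD) inf_le_right inf_le_left)
    rw [inf_comm]
    exact inf_le_inf_left _ (h.comp htD).le
  obtain ⟨M, hM, hle⟩ := exists_pumpup htt htJ hJ2
  have hp := pump_comp (h.pair hu) hyy hy hf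
  have hMp : M = pump y (L u) := by
    by_contra hne
    exact h.not_fixes_pump hu hyy hy hf ht htt ht1 htu hyt
      (hp.fixes_of_mem hM (Ne.symm hne) (hle htJ))
  subst hMp
  rcases h.small_or_big hu hyy hy1 hy hf with hs | hb
  · -- small: (A3) in `M / O(M) = 2.A_n`
    have hcov : IsNonsplitDoubleCover (↥(pump y (L u)) ⧸ oddCore ↥(pump y (L u)))
        ↥(alternatingGroup (Fin n)) :=
      (cover_of_sup hs).mp ((cover_cen (h.comp hu) (mem_centralizer_singleton_iff.mpr hy) hyy hf).mpr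
        (h.pair hu).cover)
    have htM := hle htJ
    have h1 := isComp_inf hJ2 hM hle
    have h3 := PumpUp.tc_image htM htt h1.tc
    have h4 : (QuotientGroup.mk ⟨t, htM⟩ : ↥(pump y (L u)) ⧸ oddCore ↥(pump y (L u))) ∈
        (J.subgroupOf (pump y (L u))).map (QuotientGroup.mk' (oddCore ↥(pump y (L u)))) :=
      ⟨⟨t, htM⟩, htJ, rfl⟩
    obtain ⟨π, z0, hcov, hcen⟩ := SporadicRecognition.AltCover.exists_isCover hcov
    have hz0 : (ofIsCover (by omega : 5 ≤ n) hcov).z = z0 := rfl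
    refine AnThree.not_mem (ofIsCover (by omega : 5 ≤ n) hcov) (x := QuotientGroup.mk ⟨t, htM⟩)
      ?_ ?_ ?_ (IsComp.of_tc h3) h4
    · change (QuotientGroup.mk ⟨t * t, _⟩ : ↥(pump y (L u)) ⧸ oddCore ↥(pump y (L u))) = 1
      rw [mk_eq_one_iff, htt]; exact one_mem _
    · rw [Ne, mk_eq_one_iff]
      intro h5
      exact ht1 (eq_one_of_mem_core_sq h5 htt)
    · rw [hz0]
      intro h5
      have h6 : z0 ∈ center (↥(pump y (L u)) ⧸ oddCore ↥(pump y (L u))) := (hcen _).mpr (Or.inr rfl)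
      rw [← h5] at h6
      exact h.not_fixes_pump hu hyy hy hf ht htt ht1 htu hyt (TypesB.fixes_of_center htM h6)
  · -- big: `y` fixes `L t`
    have h3 := h.fixes_of_isBig hu hyy hy1 hy hf ht htt ht1 hyt hb
    rw [← A.ker hyt] at h3
    rw [h3, Perm.support_one, Finset.card_empty] at h2
    exact absurd h2 (by norm_num)

/-- (5.2) when `y` acts trivially on the support of `u` -/
theorem W1.fixes_of_local (h : W1 n D L) (hu : u ∈ D) (hyy : y * y = 1) (hy1 : y ≠ 1)
    (hy : y * u = u * y) (hf : Fixes y (L u)) (ht : t ∈ L u) (htt : t * t = 1)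
    (ht1 : t ≠ 1) (htu : t ≠ u) (hyt : y * t = t * y) (A : Act n t (L t))
    (hl : ∀ i ∈ (A.f u).support, A.f y i = i) : Fixes y (L t) := by
  have h8 : (A.f u).support.card = 8 :=
    h.card_support A (h.mem_of_mem hu ht htt ht1) (h.sq hu) (h.ne_one hu) (Ne.symm htu)
  have hd : Disjoint (A.f y).support (A.f u).support := by
    rw [Finset.disjoint_left]
    intro i hi hi'
    exact (Perm.mem_support.mp hi) (hl i hi')
  have h1 := Finset.card_le_univ ((A.f y).support ∪ (A.f u).support)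
  rw [Finset.card_union_of_disjoint hd, h8, Fintype.card_fin] at h1
  have h2 : 2 ∣ (A.f y).support.card :=
    Perm.two_dvd_card_support (by rw [pow_two]; exact A.f_sq hyt hyy)
  have h3 := h.not_transposition hu hyy hy1 hy hf ht htt ht1 htu hyt A
  have h4 := h.le'
  have h5 : (A.f y).support.card = 0 := by omega
  rw [← A.ker hyt]
  rwa [Finset.card_eq_zero, Perm.support_eq_empty_iff] at h5

/-- **(5.2)** -/
theorem W1.fixes_or (h : W1 n D L) (hu : u ∈ D) (hxx : x * x = 1) (hx1 : x ≠ 1)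
    (hxu : x ≠ u) (hx : x * u = u * x) (hf : Fixes x (L u)) (ht : t ∈ L u) (htt : t * t = 1)
    (ht1 : t ≠ 1) (htu : t ≠ u) (hxt : x * t = t * x) :
    Fixes x (L t) ∨ Fixes (x * u) (L t) := by
  obtain ⟨A⟩ := h.nonempty_act (h.inv_mem hu ht htt ht1)
  have hut := (h.comm hu ht).symm
  rcases h.five hu ht htt ht1 htu (k := 1) (by rw [pow_one, pow_two, hxx]) hx hf hxt A with h1 | h1
  · exact Or.inl (h.fixes_of_local hu hxx hx1 hx hf ht htt ht1 htu hxt A h1)
  · right
    have hxx' : x * u * (x * u) = 1 := by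
      rw [mul_assoc, ← mul_assoc u x u, ← hx, mul_assoc x u u, h.sq hu, mul_one, hxx]
    have hx1' : x * u ≠ 1 := fun he =>
      hxu (by rw [eq_inv_of_mul_eq_one_left he, inv_eq_of_mul_eq_one_left (h.sq hu)])
    have hf' : Fixes (x * u) (L u) := by
      obtain ⟨B⟩ := h.nonempty_act hu
      rw [← B.ker (comm_mul hx rfl), B.map_mul hx rfl, B.f_u, mul_one, B.ker hx]
      exact hf
    refine h.fixes_of_local hu hxx' hx1' (comm_mul hx rfl) hf' ht htt ht1 htu
      (comm_mul hxt hut) A ?_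
    intro i hi
    rw [A.map_mul hxt hut, Perm.mul_apply, h1 _ (Perm.apply_mem_support.mpr hi), ← Perm.mul_apply,
      A.f_sq hut (h.sq hu), Perm.one_apply]

end Cfsg.Agent.Intrinsic.WOne
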